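import Groth.Agent.Lib.Cyc.CH.Gysin
import Groth.Agent.Lib.Cyc.CH.Setup
import Groth.Prelude.Def_Bivar

/-!
# From operators on all Chow groups to operations in one degree
-/

set_option autoImplicit false
set_option linter.style.haveILetI false
universe u

open CategoryTheory AlgebraicGeometry

noncomputable section

namespace Groth.Agent.Lib.Cyc.Bivar

open Groth.Agent.Lib Groth.Agent.Lib.Cyc Groth.Agent.Lib.Cyc.CH

variable {X Y : Scheme.{u}} {δ : X → ℤ} {δY : Y → ℤ}

/-- The component `CH_k → CH_l` of an operator. -/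
def atDeg (A : Tot X δ →+ Tot Y δY) (k l : ℤ) : ChowOps.CH X δ k →+ ChowOps.CH Y δY l :=
  (DFinsupp.evalAddMonoidHom l).comp (A.comp (DirectSum.of (fun k => ChowOps.CH X δ k) k))

theorem atDeg_cl (A : Tot X δ →+ Tot Y δY) {k l : ℤ} {α : AlgebraicCycle X ℤ}
    {hα : α ∈ Cyc.Zk X δ k} {β : AlgebraicCycle Y ℤ} {hβ : β ∈ Cyc.Zk Y δY l}
    (h : A (cls δ k α hα) = cls δY l β hβ) :
    atDeg A k l (ChowOps.cl α hα) = ChowOps.cl β hβ := by
  rw [atDeg, AddMonoidHom.comp_apply, AddMonoidHom.comp_apply]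
  refine (congrArg (DFinsupp.evalAddMonoidHom l) h).trans ?_
  exact DirectSum.of_eq_same (β := fun k => ChowOps.CH Y δY k) l _

theorem cl_eq_of_cls {k : ℤ} {α β : AlgebraicCycle X ℤ} {hα : α ∈ Cyc.Zk X δ k}
    {hβ : β ∈ Cyc.Zk X δ k} (h : cls δ k α hα = cls δ k β hβ) :
    ChowOps.cl α hα = ChowOps.cl β hβ :=
  DirectSum.of_injective (β := fun k => ChowOps.CH X δ k) k h

/-- The setup of a test scheme. -/
theorem setup_osq {δX : X → ℤ} (hX : Cyc.IsSetup X δX) (s : _root_.Bivar.OSq X δX) :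
    Cyc.IsSetup s.Y s.δ :=
  haveI := s.lft
  isSetup_of_deltaCompat s.g hX s.compat

/-- Dimension functions induced along compatible maps are compatible. -/
theorem compat_of_comp {Z : Scheme.{u}} {δZ : Z → ℤ} (h : X ⟶ Y) {g : Y ⟶ Z} {g' : X ⟶ Z}
    (w : h ≫ g = g') (hg : Cyc.DeltaCompat g δY δZ) (hg' : Cyc.DeltaCompat g' δ δZ) :
    Cyc.DeltaCompat h δ δY :=
  deltaCompat_of_comm (π := g) (π' := g') (f := 𝟙 Z) (by rw [Category.comp_id, w]) hg hg'
    (Residue.deltaCompat_id δZ)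

/-- Along a closed immersion the induced dimension function is the restricted one. -/
theorem delta_eq_of_closed (i : X ⟶ Y) [IsClosedImmersion i] (h : Cyc.DeltaCompat i δ δY) :
    δ = fun x => δY (i x) := funext fun x => by
  obtain ⟨n, hn, hn'⟩ := Residue.exists_trdegAt h x
  rw [FieldDim.trdegAt_eq_zero_of_surjective i x (Gys.Closed.residue_bijective i x).2] at hn
  have : n = 0 := by exact_mod_cast hn.symm
  omega

theorem lft_of_comp {Z : Scheme.{u}} {h : X ⟶ Y} {g : Y ⟶ Z} {g' : X ⟶ Z} (w : h ≫ g = g')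
    (hg : LocallyOfFiniteType g') : LocallyOfFiniteType h :=
  haveI : LocallyOfFiniteType (h ≫ g) := w ▸ hg
  locallyOfFiniteType_of_comp h g

end Groth.Agent.Lib.Cyc.Bivar
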