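import Groth.Agent.Lib.Cyc.Bivar.Basic

/-!
# The operational first Chern class
-/

set_option autoImplicit false
set_option linter.style.haveILetI false
universe u

open CategoryTheory AlgebraicGeometry

noncomputable section

namespace Groth.Agent.Lib.Cyc.Bivar

open Groth.Agent.Lib Groth.Agent.Lib.Cyc Groth.Agent.Lib.Cyc.CH

section Shapes

variable {S T : Scheme.{u}} [IsLocallyNoetherian S] [IsLocallyNoetherian T] {δS : S → ℤ}
  {δT : T → ℤ} (hS : Cyc.IsDimFun S δS) (hT : Cyc.IsDimFun T δT) {M : S.Modules}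
  (hM : PicF.IsInvertible M) {N : T.Modules} (hN : PicF.IsInvertible N)

theorem pushOK_c1 (h : T ⟶ S) [IsProper h] (hc : Cyc.DeltaCompat h δT δS)
    (e : (Scheme.Modules.pullback h).obj M ≅ N) (k : ℤ) :
    _root_.Bivar.PushOK δT δT δS δS h h (atDeg (c1 δT hT hN) k (k - 1))
      (atDeg (c1 δS hS hM) k (k - 1)) := by
  intro α hα
  obtain ⟨t, ht⟩ := exists_sections hN
  obtain ⟨β, hβ, -, e2⟩ := exists_c1 hT hN hα t ht
  refine ⟨β, hβ, atDeg_cl _ e2, atDeg_cl _ (hβ := map_mem h hβ) ?_⟩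
  rw [← push_cls hT hS h hc hα rfl (map_mem h hα), ← push_cls hT hS h hc hβ rfl (map_mem h hβ), ← e2,
    ← c1_congr hT (PicLoc.isInvertible_pullback h hM) hN e]
  exact (push_c1 hT hS h hc hM _).symm

theorem pullOK_c1 (h : T ⟶ S) [Flat h] {r : ℤ} (hc : FP.Main.Shift h δT δS r)
    (e : (Scheme.Modules.pullback h).obj M ≅ N) (k : ℤ) :
    _root_.Bivar.PullOK δS δS δT δT h h r (atDeg (c1 δS hS hM) k (k - 1))
      (atDeg (c1 δT hT hN) (k + r) (k + r - 1)) := by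
  intro α hα
  obtain ⟨t, ht⟩ := exists_sections hM
  obtain ⟨β, hβ, -, e2⟩ := exists_c1 hS hM hα t ht
  refine ⟨β, hβ, atDeg_cl _ e2, fun α₁ h₁ hα₁ => ?_⟩
  obtain ⟨β₁, hβ₁, e1⟩ := PullExists.exists_pullFun (δX := δT) h r hβ
  have hβ₁' : β₁ ∈ Cyc.Zk T δT (k + r - 1) := by rwa [show k + r - 1 = k - 1 + r by ring]
  refine ⟨β₁, hβ₁', e1, atDeg_cl _ ?_⟩
  rw [← pull_cls hT hS h hc hα rfl hα₁ h₁,
    ← pull_cls hT hS h hc hβ (show k + r - 1 = k - 1 + r by ring) hβ₁' e1, ← e2,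
    ← c1_congr hT (PicLoc.isInvertible_pullback h hM) hN e]
  exact (pull_c1 hT hS h hc hM _).symm

theorem gysinOK_c1 (i : T ⟶ S) [IsClosedImmersion i] (hδ : δT = fun d => δS (i d))
    (e : (Scheme.Modules.pullback i).obj M ≅ N) {L : S.Modules} (hL : PicF.IsInvertible L)
    (σ : L.presheaf.obj (Opposite.op ⊤)) (hσ : Cyc.IsZeroSchemeOf i L σ) (k : ℤ) :
    _root_.Bivar.GysinOK₁ δS δT i L σ (atDeg (c1 δS hS hM) k (k - 1))
      (atDeg (c1 δT hT hN) (k - 1) (k - 1 - 1)) := by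
  subst hδ
  intro α hα
  obtain ⟨t, ht⟩ := exists_sections hM
  obtain ⟨β, hβ, -, e2⟩ := exists_c1 hS hM hα t ht
  refine ⟨β, hβ, atDeg_cl _ e2, fun w hw γ hγc hγ => ?_⟩
  obtain ⟨ζ, hζ, eζ⟩ := exists_gys_cycle i hS hL (s := σ) hw hβ
  refine ⟨ζ, hζ, eζ, atDeg_cl _ ?_⟩
  rw [← gys_cls i hS hL hσ hw hα rfl hγ hγc, ← gys_cls i hS hL hσ hw hβ rfl hζ eζ, ← e2,
    gys_c1 i hS hL hσ hw hM, c1_congr hT (PicLoc.isInvertible_pullback i hM) hN e]
  rfl

end Shapes

variable {X : Scheme.{u}} {δX : X → ℤ} (hX : Cyc.IsSetup X δX) {L : X.Modules}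
  (hL : PicF.IsInvertible L)

/-- `c₁(L)` on one test scheme. -/
def c1Op (s : _root_.Bivar.OSq X δX) : Tot s.Y s.δ →+ Tot s.Y s.δ :=
  haveI := (setup_osq hX s).1
  c1 s.δ (setup_osq hX s).2.2 (PicLoc.isInvertible_pullback s.g hL)

/-- Compatible pullbacks. -/
def pullIso {s t : _root_.Bivar.OSq X δX} (h : t.Y ⟶ s.Y) (w : h ≫ s.g = t.g) (L : X.Modules) :
    (Scheme.Modules.pullback h).obj ((Scheme.Modules.pullback s.g).obj L) ≅
      (Scheme.Modules.pullback t.g).obj L :=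
  (Scheme.Modules.pullbackComp h s.g).app L ≪≫ (Scheme.Modules.pullbackCongr w).app L

/-- `c₁(L) ∈ A¹(X)`. -/
def c1Class : _root_.Bivar.OpCl 1 X δX where
  op s k := atDeg (c1Op hX hL s) k (k - 1)
  push s t h _ w k :=
    haveI := (setup_osq hX s).1
    haveI := (setup_osq hX t).1
    pushOK_c1 (setup_osq hX s).2.2 (setup_osq hX t).2.2 _ _ h (compat_of_comp h w s.compat t.compat)
      (pullIso h w L) k
  pull s t h _ r hr w k :=
    haveI := (setup_osq hX s).1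
    haveI := (setup_osq hX t).1
    haveI := lft_of_comp w t.lft
    pullOK_c1 (setup_osq hX s).2.2 (setup_osq hX t).2.2 _ _ h
      (FP.Main.shift_of_hasRelDim h hr (compat_of_comp h w s.compat t.compat)) (pullIso h w L) k
  gysin s t i _ w M hM σ hσ k :=
    haveI := (setup_osq hX s).1
    haveI := (setup_osq hX t).1
    gysinOK_c1 (setup_osq hX s).2.2 (setup_osq hX t).2.2 _ _ i
      (delta_eq_of_closed i (compat_of_comp i w s.compat t.compat)) (pullIso i w L) hM σ hσ k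

theorem isC1Class_c1Class : _root_.Bivar.IsC1Class L (c1Class hX hL) :=
  ⟨hL, fun s _ _ hα v hv γ e hγ =>
    haveI := (setup_osq hX s).1
    atDeg_cl (c1Op hX hL s) (c1_cls s.δ (setup_osq hX s).2.2 (PicLoc.isInvertible_pullback s.g hL)
      hα rfl hγ v hv e)⟩

/-- A first Chern class is `c₁`. -/
theorem eq_c1Class (c : _root_.Bivar.OpCl 1 X δX) (hc : _root_.Bivar.IsC1Class L c) :
    c = c1Class hX hL := by
  refine _root_.Bivar.OpCl.ext (funext fun s => funext fun k => AddMonoidHom.ext fun x => ?_)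
  haveI := (setup_osq hX s).1
  obtain ⟨α, hα, rfl⟩ := _root_.Bivar.exists_rep x
  obtain ⟨v, hv⟩ := exists_sections (PicLoc.isInvertible_pullback s.g hL)
  obtain ⟨γ, hγ, e, -⟩ := exists_c1 (setup_osq hX s).2.2 (PicLoc.isInvertible_pullback s.g hL) hα v hv
  rw [hc.2 s k α hα v hv γ e hγ, (isC1Class_c1Class hX hL).2 s k α hα v hv γ e hγ]

end Groth.Agent.Lib.Cyc.Bivar
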