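import Groth.Agent.Lib.Cyc.Bivar.Basic
import Groth.Prelude.Def_Bivar2

/-!
# Bivariant classes commute with first Chern classes

The Gysin map of the triple `(L, 0, 𝟙)` is `c₁(L) ∩`.
-/

set_option autoImplicit false
set_option linter.style.haveILetI false
universe u

open CategoryTheory AlgebraicGeometry

noncomputable section

namespace Groth.Agent.Lib.Cyc.Bivar

open Groth.Agent.Lib Groth.Agent.Lib.Cyc Groth.Agent.Lib.Cyc.CH Modules.StalkModule

variable {Y : Scheme.{u}} {L : Y.Modules}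

theorem isZeroSchemeOf_zero (hL : PicF.IsInvertible L) : Cyc.IsZeroSchemeOf (𝟙 Y) L 0 := by
  refine ⟨Set.ext fun y => ⟨fun _ => ?_, fun _ => ⟨y, rfl⟩⟩, fun d => ?_⟩
  · show (Submodule.Quotient.mk (L.presheaf.germ ⊤ y trivial 0) : Cyc.secFibre L y) = 0
    rw [map_zero, Submodule.Quotient.mk_zero]
  · obtain ⟨t, ht, -⟩ := C1Indep.exists_free_gen hL ((𝟙 Y : Y ⟶ Y) d)
    refine ⟨t, 0, ht, by rw [map_zero, zero_smul], ?_⟩
    rw [Ideal.span_singleton_eq_bot.2 rfl, ← RingHom.injective_iff_ker_eq_bot]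
    exact ((ConcreteCategory.bijective_of_isIso ((𝟙 Y : Y ⟶ Y).stalkMap d))).1

theorem gysinChoice_zero (w : (ξ : Y) → Cyc.secFibre L ξ) :
    Cyc.gysinChoice L (0 : L.presheaf.obj (Opposite.op ⊤)) w = w := by
  funext ξ
  rw [Cyc.gysinChoice, if_neg]
  rw [map_zero, Submodule.Quotient.mk_zero, not_ne_iff]

variable {X X' : Scheme.{u}} {δX : X → ℤ} {δX' : X' → ℤ}

/-- An operational class commutes with `c₁`. -/
theorem op_c1_comm (hX : Cyc.IsSetup X δX) {L : X.Modules} {c : _root_.Bivar.OpCl 1 X δX}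
    (hc : _root_.Bivar.IsC1Class L c) {q : ℤ} (d : _root_.Bivar.OpCl q X δX) (s : _root_.Bivar.OSq X δX)
    (k : ℤ) (x : ChowOps.CH s.Y s.δ k) :
    c.op s (k - q) (d.op s k x) =
      _root_.Bivar.chCast s.Y s.δ (sub_right_comm k 1 q) (d.op s (k - 1) (c.op s k x)) := by
  haveI := (setup_osq hX s).1
  obtain ⟨α, hα, rfl⟩ := _root_.Bivar.exists_rep x
  have hL := PicLoc.isInvertible_pullback s.g hc.1
  obtain ⟨β, hβ, e₁, e₂⟩ := d.gysin s s (𝟙 s.Y) (Category.id_comp _) _ hL 0 (isZeroSchemeOf_zero hL) k α hα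
  obtain ⟨w, hw⟩ := exists_sections hL
  obtain ⟨γ, hγ, e, -⟩ := exists_c1 (setup_osq hX s).2.2 hL hα w hw
  obtain ⟨ζ, hζ, eζ, e₃⟩ := e₂ w hw γ
    (fun z => by rw [gysinChoice_zero]; exact congrFun e z) hγ
  have hζ' : ζ ∈ Cyc.Zk s.Y s.δ (k - q - 1) := by rwa [sub_right_comm]
  rw [e₁, hc.2 s k α hα w hw γ e hγ, e₃, _root_.Bivar.chCast_cl,
    hc.2 s (k - q) β hβ w hw ζ (funext fun z => by rw [← gysinChoice_zero w]; exact eζ z) hζ']

/-- A bivariant class commutes with `c₁`. -/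
theorem cl_c1_comm (hX : Cyc.IsSetup X δX) (hX' : Cyc.IsSetup X' δX') {f : X' ⟶ X} {L : X.Modules}
    {cX : _root_.Bivar.OpCl 1 X δX} (hcX : _root_.Bivar.IsC1Class L cX)
    {cX' : _root_.Bivar.OpCl 1 X' δX'}
    (hcX' : _root_.Bivar.IsC1Class ((Scheme.Modules.pullback f).obj L) cX') {p : ℤ}
    (c : _root_.Bivar.Cl p f δX' δX) (s : _root_.Bivar.Sq f δX' δX) (k : ℤ) (x : ChowOps.CH s.Y' s.δY' k) :
    c.op s (k - 1) (cX.op ⟨s.Y', s.g, s.lft, s.δY', s.compatY⟩ k x) =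
      _root_.Bivar.chCast s.X' s.δX' (sub_right_comm k p 1)
        (cX'.op ⟨s.X', s.g', MorphismProperty.of_isPullback s.isPullback s.lft, s.δX', s.compatX⟩
          (k - p) (c.op s k x)) := by
  let tY : _root_.Bivar.OSq X δX := ⟨s.Y', s.g, s.lft, s.δY', s.compatY⟩
  let tX : _root_.Bivar.OSq X' δX' :=
    ⟨s.X', s.g', MorphismProperty.of_isPullback s.isPullback s.lft, s.δX', s.compatX⟩
  haveI : IsLocallyNoetherian s.Y' := (setup_osq hX tY).1
  haveI : IsLocallyNoetherian s.X' := (setup_osq hX' tX).1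
  obtain ⟨α, hα, rfl⟩ := _root_.Bivar.exists_rep x
  have hM : PicF.IsInvertible ((Scheme.Modules.pullback s.g).obj L) :=
    PicLoc.isInvertible_pullback s.g hcX.1
  have hN := PicLoc.isInvertible_pullback s.f' hM
  obtain ⟨β, hβ, e₁, e₂⟩ := c.gysin s s (𝟙 s.Y') (𝟙 s.X') (Category.id_comp _)
    ((Category.id_comp _).trans (Category.comp_id _).symm) (Category.id_comp _) _ hM 0
    (isZeroSchemeOf_zero hM) 0 (isZeroSchemeOf_zero hN) k α hα
  obtain ⟨w, hw⟩ := exists_sections hM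
  obtain ⟨w', hw'⟩ := exists_sections hN
  obtain ⟨γ, hγ, e, -⟩ := exists_c1 (setup_osq hX tY).2.2 hM hα w hw
  obtain ⟨ζ, hζ, eζ, e₃⟩ := e₂ w hw γ
    (fun z => by rw [gysinChoice_zero]; exact congrFun e z) hγ w' hw'
  have hN2 : PicF.IsInvertible ((Scheme.Modules.pullback s.g').obj ((Scheme.Modules.pullback f).obj L)) :=
    PicLoc.isInvertible_pullback s.g' hcX'.1
  let i : (Scheme.Modules.pullback s.f').obj ((Scheme.Modules.pullback s.g).obj L) ≅
      (Scheme.Modules.pullback s.g').obj ((Scheme.Modules.pullback f).obj L) :=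
    (Scheme.Modules.pullbackComp s.f' s.g).app L ≪≫
      (Scheme.Modules.pullbackCongr s.isPullback.w).app L ≪≫
      ((Scheme.Modules.pullbackComp s.g' f).app L).symm
  obtain ⟨v, hv⟩ := exists_sections hN2
  obtain ⟨η, hη, eη, eη'⟩ := exists_c1 (setup_osq hX' tX).2.2 hN2 hβ v hv
  rw [e₁, hcX.2 tY k α hα w hw γ e hγ, e₃, hcX'.2 tX (k - p) β hβ v hv η eη hη,
    _root_.Bivar.chCast_cl]
  refine cl_eq_of_cls ?_
  have h1 := c1_cls s.δX' (setup_osq hX' tX).2.2 hN hβ (sub_right_comm k 1 p) hζ w' hw'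
    (funext fun z => by rw [← gysinChoice_zero w']; exact eζ z)
  rw [← h1, c1_congr (setup_osq hX' tX).2.2 hN hN2 i]
  exact eη'.trans (cls_congr (sub_right_comm k p 1) rfl)

end Groth.Agent.Lib.Cyc.Bivar
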