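import Groth.Agent.Lib.Cyc.Bivar.ChernOp
import Groth.Agent.Lib.Cyc.Bivar.C1Class
import Groth.Prelude.Def_Bivar2

/-!
# Operational Chern classes
-/

set_option autoImplicit false
set_option linter.style.haveILetI false
universe u

open CategoryTheory CategoryTheory.Limits AlgebraicGeometry

noncomputable section

namespace Groth.Agent.Lib.Cyc.Bivar

open Groth.Agent.Lib Groth.Agent.Lib.Cyc Groth.Agent.Lib.Cyc.CH

theorem gysinOK_chern {S T : Scheme.{u}} [IsLocallyNoetherian S] [IsLocallyNoetherian T] {δS : S → ℤ}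
    {δT : T → ℤ} (hS : Cyc.IsSetup S δS) (hT : Cyc.IsSetup T δT) {r : ℕ} {F : S.Modules} {G : T.Modules}
    (hF : FlatMod.IsFinLocFreeOfRank r F) (hG : FlatMod.IsFinLocFreeOfRank r G) (i : T ⟶ S)
    [IsClosedImmersion i] (hδ : δT = fun d => δS (i d)) (hc : Cyc.DeltaCompat i δT δS)
    (e : (Scheme.Modules.pullback i).obj F ≅ G) {M : S.Modules} (hM : PicF.IsInvertible M)
    (σ : M.presheaf.obj (Opposite.op ⊤)) (hσ : Cyc.IsZeroSchemeOf i M σ) (j : ℕ) (k : ℤ) :
    _root_.Bivar.GysinOK₁ δS δT i M σ (atDeg (chern hS hF j) k (k - j))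
      (atDeg (chern hT hG j) (k - 1) (k - 1 - j)) := by
  subst hδ
  intro α hα
  have hs := hS.2.2
  obtain ⟨β, hβ, e'⟩ := exists_chern_cycle hS hF j hα
  refine ⟨β, hβ, atDeg_cl (chern hS hF j) e', fun v hv γ hγc hγ => ?_⟩
  obtain ⟨ζ, hζ, eζ⟩ := exists_gys_cycle i hs hM (s := σ) hv hβ
  have hζ' : ζ ∈ Cyc.Zk T (fun d => δS (i d)) (k - 1 - j) := by
    rwa [show k - 1 - (j : ℤ) = k - j - 1 by ring]
  refine ⟨ζ, hζ', eζ, atDeg_cl (chern hT hG j) ?_⟩
  rw [← gys_cls i hs hM hσ hv hα rfl hγ hγc,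
    ← gys_cls i hs hM hσ hv hβ (show k - 1 - (j : ℤ) = k - j - 1 by ring) hζ' eζ, ← e']
  exact (gys_chern hS hF hG i hT e hM hσ hv j hc _).symm

variable {X : Scheme.{u}} {δX : X → ℤ} (hX : Cyc.IsSetup X δX) {E : X.Modules} {r : ℕ}
  (hE : FlatMod.IsFinLocFreeOfRank r E)

/-- `c_j(E)` on one test scheme. -/
def chernOp (s : _root_.Bivar.OSq X δX) (j : ℕ) : Tot s.Y s.δ →+ Tot s.Y s.δ :=
  haveI := (setup_osq hX s).1
  chern (setup_osq hX s) (TensorMod.LocFree.rank_pullback s.g hE) j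

/-- `c_j(E) ∈ A^j(X)`. -/
def chernClass (j : ℕ) : _root_.Bivar.OpCl (j : ℤ) X δX where
  op s k := atDeg (chernOp hX hE s j) k (k - j)
  push s t h _ w k α hα := by
    haveI := (setup_osq hX s).1
    haveI := (setup_osq hX t).1
    have hc := compat_of_comp h w s.compat t.compat
    obtain ⟨β, hβ, e⟩ := exists_chern_cycle (setup_osq hX t) (TensorMod.LocFree.rank_pullback t.g hE) j hα
    refine ⟨β, hβ, atDeg_cl (chernOp hX hE t j) e,
      atDeg_cl (chernOp hX hE s j) (hβ := map_mem h hβ) ?_⟩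
    rw [← push_cls (setup_osq hX t).2.2 (setup_osq hX s).2.2 h hc hα rfl (map_mem h hα),
      ← push_cls (setup_osq hX t).2.2 (setup_osq hX s).2.2 h hc hβ rfl (map_mem h hβ), ← e]
    exact (push_chern (setup_osq hX s) (setup_osq hX t) (TensorMod.LocFree.rank_pullback s.g hE)
      (TensorMod.LocFree.rank_pullback t.g hE) h hc (pullIso h w E) j _).symm
  pull s t h _ d hd w k α hα := by
    haveI := (setup_osq hX s).1
    haveI := (setup_osq hX t).1
    haveI := lft_of_comp w t.lft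
    have hs := (setup_osq hX s).2.2
    have ht := (setup_osq hX t).2.2
    have hc := compat_of_comp h w s.compat t.compat
    have hsh := FP.Main.shift_of_hasRelDim h hd hc
    obtain ⟨β, hβ, e⟩ := exists_chern_cycle (setup_osq hX s) (TensorMod.LocFree.rank_pullback s.g hE) j hα
    refine ⟨β, hβ, atDeg_cl (chernOp hX hE s j) e, fun α₁ h₁ hα₁ => ?_⟩
    obtain ⟨β₁, hβ₁, e1⟩ := PullExists.exists_pullFun (δX := t.δ) h (d : ℤ) hβ
    have hβ₁' : β₁ ∈ Cyc.Zk t.Y t.δ (k + d - j) := by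
      rwa [show k + (d : ℤ) - j = k - j + d by ring]
    refine ⟨β₁, hβ₁', e1, atDeg_cl (chernOp hX hE t j) ?_⟩
    rw [← pull_cls ht hs h hsh hα rfl hα₁ h₁,
      ← pull_cls ht hs h hsh hβ (show k + (d : ℤ) - j = k - j + d by ring) hβ₁' e1, ← e]
    exact (pull_chern (setup_osq hX s) (setup_osq hX t) (TensorMod.LocFree.rank_pullback s.g hE)
      (TensorMod.LocFree.rank_pullback t.g hE) h hd hc (pullIso h w E) j _).symm
  gysin s t i _ w M hM σ hσ k :=
    haveI := (setup_osq hX s).1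
    haveI := (setup_osq hX t).1
    gysinOK_chern (setup_osq hX s) (setup_osq hX t) (TensorMod.LocFree.rank_pullback s.g hE)
      (TensorMod.LocFree.rank_pullback t.g hE) i
      (delta_eq_of_closed i (compat_of_comp i w s.compat t.compat))
      (compat_of_comp i w s.compat t.compat) (pullIso i w E) hM σ hσ j k

theorem chernClass_zero : chernClass hX hE 0 = _root_.Bivar.OpCl.one X δX := by
  refine _root_.Bivar.OpCl.ext (funext fun s => funext fun k => AddMonoidHom.ext fun x => ?_)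
  haveI := (setup_osq hX s).1
  obtain ⟨α, hα, rfl⟩ := _root_.Bivar.exists_rep x
  refine (atDeg_cl (chernOp hX hE s 0) (β := α) (hβ := by simpa using hα) ?_).trans
    (_root_.Bivar.chCast_cl s.Y s.δ _ α hα).symm
  rw [chernOp, chern_zero]
  exact cls_congr (by simp) rfl

theorem chernClass_eq_zero {j : ℕ} (hj : r < j) : chernClass hX hE j = 0 := by
  refine _root_.Bivar.OpCl.ext (funext fun s => funext fun k => AddMonoidHom.ext fun x => ?_)
  haveI := (setup_osq hX s).1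
  obtain ⟨α, hα, rfl⟩ := _root_.Bivar.exists_rep x
  refine (atDeg_cl (chernOp hX hE s j) (β := 0) (hβ := mem_zero) ?_).trans ?_
  · rw [chernOp, chern_eq_zero _ _ hj]
    exact cls_zero.symm
  · exact QuotientAddGroup.mk_zero _

/-- The classes satisfy the relation on every projective bundle. -/
theorem isChernClasses_chernClass :
    _root_.Bivar.IsChernClasses E r (chernClass hX hE) := by
  refine ⟨hE, chernClass_zero hX hE, fun j hj => chernClass_eq_zero hX hE hj, ?_⟩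
  intro s P π O1 q hP δP hδ k α hα ζ h0 hζ hops
  refine ⟨h0, hζ, fun t ht β hβ => ?_⟩
  have hY := setup_osq hX s
  haveI := hY.1
  have hF := TensorMod.LocFree.rank_pullback s.g hE
  rcases r with _ | n
  · haveI := BdlUniq.isEmpty hP hF
    obtain rfl : β = 0 := by
      ext y
      exact isEmptyElim y
    exact Ord.ratEquivZero_zero _ _
  haveI := BdlUniq.isProper hP hF
  have hPs := isSetup_of_deltaCompat π hY hδ
  haveI := hPs.1
  haveI := hP.epi
  have B := Bdl.of_isProjBundle hY.2.2 hPs.2.2 hδ hP hF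
  have hch : chern hY hF = B.ch := (isChern_chern hY hF).ext hY (B.isChern hY hPs hF q)
  have hcls : ∀ j : Fin (n + 2), cls s.δ (k - ((j : ℕ) : ℤ)) (ζ j) (hζ j) =
      B.ch (j : ℕ) (cls s.δ k α hα) := fun j => by
    obtain ⟨b, hb, e⟩ := exists_chern_cycle hY hF (j : ℕ) hα
    have h1 : ChowOps.cl b hb = ChowOps.cl (ζ j) (hζ j) :=
      (atDeg_cl (chernOp hX hE s j) e).symm.trans (hops j)
    rw [← hch, e]
    exact congrArg (DirectSum.of (fun k => ChowOps.CH s.Y s.δ k) (k - ((j : ℕ) : ℤ))) h1.symm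
  haveI := B.flat
  have hdeg : ∀ i : Fin (n + 2), k - 1 + ((i : ℕ) : ℤ) = k - ((Fin.rev i : ℕ) : ℤ) + n := fun i => by
    have := i.2
    rw [Fin.val_rev]
    omega
  choose a ha ha' using fun i : Fin (n + 2) => PullExists.exists_pullFun (δX := δP) π (n : ℤ) (hζ (Fin.rev i))
  have ha1 : ∀ i : Fin (n + 2), a i ∈ Cyc.Zk P δP (k - 1 + ((i : ℕ) : ℤ)) := fun i => hdeg i ▸ ha i
  choose c hc0 hc using fun i => PB.Chain.exists_chain hPs.2.2 B.inv (ha1 i) t ht
  have hm : ∀ i : Fin (n + 2), ((-1 : ℤ) ^ (i : ℕ)) • c i (i : ℕ) ∈ Cyc.Zk P δP (k - 1) := fun i => by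
    refine mem_zsmul _ ?_
    have := (hc i).mem (i : ℕ)
    rwa [show k - 1 + ((i : ℕ) : ℤ) - ((i : ℕ) : ℤ) = k - 1 by ring] at this
  obtain rfl : β = ∑ i : Fin (n + 2), ((-1 : ℤ) ^ (i : ℕ)) • c i (i : ℕ) := by
    ext y
    rw [hβ, Function.locallyFinsuppWithin.coe_sum, Finset.sum_apply,
      show ((n + 1 : ℕ) : ℤ) - 1 = (n : ℤ) by push_cast; ring]
    exact Finset.sum_congr rfl fun i _ => by
      rw [Function.locallyFinsuppWithin.coe_zsmul, Pi.smul_apply, smul_eq_mul,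
        PB.Chern.IsChain.eq_powFun (hc i), hc0, ha']
  have hs' : (∑ i : Fin (n + 2), ((-1 : ℤ) ^ (i : ℕ)) • c i (i : ℕ)) ∈ Cyc.Zk P δP (k - 1) :=
    (ChowOps.zk P δP (k - 1)).sum_mem fun i _ => hm i
  rw [← cls_eq_zero_iff hPs.2.2 hs', cls_sum Finset.univ _ hm hs']
  refine Eq.trans ?_ (B.rel (cls s.δ k α hα))
  rw [Finset.sum_range]
  refine Finset.sum_congr rfl fun i _ => ?_
  have h0' : c i 0 ∈ Cyc.Zk P δP (k - 1 + ((i : ℕ) : ℤ)) := hc0 i ▸ ha1 i
  rw [show n + 1 - (i : ℕ) = (Fin.rev i : ℕ) by rw [Fin.val_rev]; omega, ← hcls, Bdl.term_apply,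
    B.pb_cls (hζ (Fin.rev i)) (hdeg i) h0' (by rw [hc0, ha']),
    B.pow_h_cls ht (hc i) h0', ← cls_zsmul _ ((hc i).mem _)]
  exact cls_congr (by ring) rfl

/-- Chern classes are determined by the relation. -/
theorem eq_chernClass {c : (j : ℕ) → _root_.Bivar.OpCl (j : ℤ) X δX}
    (hc : _root_.Bivar.IsChernClasses E r c) : c = chernClass hX hE := by
  funext j
  by_cases hj : j ≤ r
  swap
  · rw [hc.2.2.1 j (by omega), chernClass_eq_zero hX hE (by omega)]
  refine _root_.Bivar.OpCl.ext (funext fun s => funext fun k => AddMonoidHom.ext fun x => ?_)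
  have hY := setup_osq hX s
  haveI := hY.1
  have hF := TensorMod.LocFree.rank_pullback s.g hE
  obtain ⟨α, hα, rfl⟩ := _root_.Bivar.exists_rep x
  obtain ⟨P, π, O1, q, hP, hp, -⟩ := BdlExists.exists_proper _ (TensorMod.LocFree.of_rank hF)
  haveI := hp
  obtain ⟨δP, hPs, hδ⟩ := exists_setup π hY
  have hrep : ∀ i : Fin (r + 1), ∃ ζ, ∃ hζ : ζ ∈ Cyc.Zk s.Y s.δ (k - ((i : ℕ) : ℤ)),
      (c i).op s k (ChowOps.cl α hα) = ChowOps.cl ζ hζ ∧ (i = 0 → ζ = α) := fun i => by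
    by_cases hi : i = 0
    · subst hi
      refine ⟨α, by simpa using hα, ?_, fun _ => rfl⟩
      exact (congrArg (fun z => _root_.Bivar.OpCl.op z s k (ChowOps.cl α hα)) hc.2.1).trans
        (_root_.Bivar.chCast_cl s.Y s.δ _ α hα)
    · obtain ⟨ζ, hζ, e⟩ := _root_.Bivar.exists_rep ((c i).op s k (ChowOps.cl α hα))
      exact ⟨ζ, hζ, e.symm, fun h => absurd h hi⟩
  choose ζ hζ hop h0 using hrep
  have hcap := hc.2.2.2 s P π O1 q hP δP hδ k α hα ζ (h0 0 rfl) hζ hop
  obtain ⟨ch, hch, hval⟩ := exists_isChern hY hF hP hPs hδ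
  have e := hval hcap hα ⟨j, Nat.lt_succ_of_le hj⟩
  rw [hch.ext hY (isChern_chern hY hF)] at e
  exact (hop ⟨j, Nat.lt_succ_of_le hj⟩).trans
    (atDeg_cl (chernOp hX hE s j) (hβ := hζ ⟨j, Nat.lt_succ_of_le hj⟩) e.symm).symm

end Groth.Agent.Lib.Cyc.Bivar
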