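import Groth.Agent.Lib.Cyc.Bivar.TotOp

/-!
# Standing data of squares
-/

set_option autoImplicit false
set_option linter.style.haveILetI false
universe u

open CategoryTheory CategoryTheory.Limits AlgebraicGeometry

noncomputable section

namespace Groth.Agent.Lib.Cyc.Bivar

open Groth.Agent.Lib Groth.Agent.Lib.Cyc Groth.Agent.Lib.Cyc.CH

variable {X Y : Scheme.{u}} {f : X ⟶ Y} {δX : X → ℤ} {δY : Y → ℤ}

theorem setup_sqY (hY : Cyc.IsSetup Y δY) (s : _root_.Bivar.Sq f δX δY) :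
    Cyc.IsSetup s.Y' s.δY' :=
  haveI := s.lft
  isSetup_of_deltaCompat s.g hY s.compatY

theorem setup_sqX (hX : Cyc.IsSetup X δX) (s : _root_.Bivar.Sq f δX δY) :
    Cyc.IsSetup s.X' s.δX' :=
  haveI : LocallyOfFiniteType s.g' := MorphismProperty.of_isPullback s.isPullback s.lft
  isSetup_of_deltaCompat s.g' hX s.compatX

theorem compat_f' (hδ : Cyc.DeltaCompat f δX δY) (s : _root_.Bivar.Sq f δX δY) :
    Cyc.DeltaCompat s.f' s.δX' s.δY' :=
  deltaCompat_of_comm (π := s.g) (π' := s.g') (f := f) s.isPullback.w s.compatY s.compatX hδ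

/-- The square over a morphism of squares is cartesian. -/
theorem isPullback_map (s t : _root_.Bivar.Sq f δX δY) (h : t.Y' ⟶ s.Y') (h' : t.X' ⟶ s.X')
    (w₁ : h ≫ s.g = t.g) (w₂ : h' ≫ s.f' = t.f' ≫ h) (w₃ : h' ≫ s.g' = t.g') :
    IsPullback h' t.f' s.f' h :=
  (IsPullback.of_bot (w₁.symm ▸ w₃.symm ▸ t.isPullback) w₂.symm s.isPullback).flip

end Groth.Agent.Lib.Cyc.Bivar
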