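import Groth.Agent.Lib.Cyc.PieceCover
import Groth.Agent.Lib.Cyc.Bivar.Sq
import Groth.Agent.Lib.Cyc.CH.SquareOps
import Groth.Agent.Lib.Cyc.CH.Cover
import Groth.Agent.Lib.Cyc.ExtNat

/-!
# Bivariant classes over a disjoint open cover of the base
-/

set_option autoImplicit false
set_option linter.style.haveILetI false
universe u

open CategoryTheory CategoryTheory.Limits AlgebraicGeometry

noncomputable section

namespace Groth.Agent.Lib.Cyc.Bivar.Clopen

open Groth.Agent.Lib Groth.Agent.Lib.Cyc Groth.Agent.Lib.Cyc.CH PieceCover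

variable {X Y : Scheme.{u}} {f : X ⟶ Y} {δX : X → ℤ} {δY : Y → ℤ} {J : Type u}
  (sj : J → _root_.Bivar.Sq f δX δY) (hp : IsPieces fun j => (sj j).g)

section

variable (t : _root_.Bivar.Sq f δX δY) (j : J)

/-- A piece of the test scheme. -/
abbrev U : Scheme.{u} := pullback t.g (sj j).g

/-- Its embedding. -/
abbrev a : U sj t j ⟶ t.Y' := pullback.fst t.g (sj j).g

/-- Its map to the piece of the base. -/
abbrev b : U sj t j ⟶ (sj j).Y' := pullback.snd t.g (sj j).g

/-- The piece of the source. -/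
abbrev V : Scheme.{u} := pullback (a sj t j) t.f'

/-- Its embedding. -/
abbrev a' : V sj t j ⟶ t.X' := pullback.snd (a sj t j) t.f'

/-- Its map to the piece of the test scheme. -/
abbrev q : V sj t j ⟶ U sj t j := pullback.fst (a sj t j) t.f'

/-- Its map to the piece of the source. -/
def b' : V sj t j ⟶ (sj j).X' :=
  (sj j).isPullback.lift (q sj t j ≫ b sj t j) (a' sj t j ≫ t.g') (by
    rw [Category.assoc, Category.assoc, ← pullback.condition, ← Category.assoc, pullback.condition,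
      Category.assoc, t.isPullback.w])

theorem b'_f : b' sj t j ≫ (sj j).f' = q sj t j ≫ b sj t j := (sj j).isPullback.lift_fst _ _ _

theorem b'_g : b' sj t j ≫ (sj j).g' = a' sj t j ≫ t.g' := (sj j).isPullback.lift_snd _ _ _

theorem isPullback_sub : IsPullback (q sj t j) (b' sj t j) (b sj t j) (sj j).f' :=
  IsPullback.of_bot
    (by
      rw [b'_g, ← pullback.condition]
      exact (IsPullback.of_hasPullback (a sj t j) t.f').paste_vert t.isPullback)
    (b'_f sj t j).symm (sj j).isPullback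

include hp in
theorem pieces_a : IsPieces (fun j => a sj t j) :=
  hp.pullback fun j => IsPullback.of_hasPullback t.g (sj j).g

include hp in
theorem pieces_a' : IsPieces (fun j => a' sj t j) :=
  (pieces_a sj hp t).pullback fun j => (IsPullback.of_hasPullback (a sj t j) t.f').flip

include hp in
theorem isOpen_a : IsOpenImmersion (a sj t j) := (pieces_a sj hp t).isOpen j

include hp in
theorem isOpen_a' : IsOpenImmersion (a' sj t j) := (pieces_a' sj hp t).isOpen j

include hp in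
theorem compat_a : Cyc.DeltaCompat (a sj t j) (fun z => t.δY' (a sj t j z)) t.δY' :=
  haveI := isOpen_a sj hp t j
  deltaCompat_restrict _

include hp in
theorem compat_a' : Cyc.DeltaCompat (a' sj t j) (fun z => t.δX' (a' sj t j z)) t.δX' :=
  haveI := isOpen_a' sj hp t j
  deltaCompat_restrict _

/-- The induced square over the piece. -/
abbrev sub : _root_.Bivar.Sq (sj j).f' (sj j).δX' (sj j).δY' where
  Y' := U sj t j
  X' := V sj t j
  g := b sj t j
  f' := q sj t j
  g' := b' sj t j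
  isPullback := isPullback_sub sj t j
  lft := haveI := t.lft; inferInstance
  δY' z := t.δY' (a sj t j z)
  δX' z := t.δX' (a' sj t j z)
  compatY := compat_of_comp (b sj t j) pullback.condition.symm (sj j).compatY
    (Residue.deltaCompat_comp (compat_a sj hp t j) t.compatY)
  compatX := compat_of_comp (b' sj t j) (b'_g sj t j) (sj j).compatX
    (Residue.deltaCompat_comp (compat_a' sj hp t j) t.compatX)

end

section Setup

variable (hX : Cyc.IsSetup X δX) (hY : Cyc.IsSetup Y δY) (t : _root_.Bivar.Sq f δX δY)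

include hp hY in
theorem setup_U (j : J) : Cyc.IsSetup (U sj t j) (fun z => t.δY' (a sj t j z)) :=
  setup_sqY (setup_sqY hY (sj j)) (sub sj hp t j)

include hp hX in
theorem setup_V (j : J) : Cyc.IsSetup (V sj t j) (fun z => t.δX' (a' sj t j z)) :=
  setup_sqX (setup_sqX hX (sj j)) (sub sj hp t j)

/-- Restriction to a piece of the test scheme. -/
def ra (j : J) : Tot t.Y' t.δY' →+ Tot (U sj t j) (fun z => t.δY' (a sj t j z)) :=
  haveI := (setup_sqY hY t).1
  haveI := (setup_U sj hp hY t j).1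
  haveI := isOpen_a sj hp t j
  pull (setup_U sj hp hY t j).2.2 (setup_sqY hY t).2.2 (a sj t j) (shift_restrict (a sj t j))

/-- Restriction to a piece of the source. -/
def ra' (j : J) : Tot t.X' t.δX' →+ Tot (V sj t j) (fun z => t.δX' (a' sj t j z)) :=
  haveI := (setup_sqX hX t).1
  haveI := (setup_V sj hp hX t j).1
  haveI := isOpen_a' sj hp t j
  pull (setup_V sj hp hX t j).2.2 (setup_sqX hX t).2.2 (a' sj t j) (shift_restrict (a' sj t j))

include hX in
theorem eq_of_ra' {x y : Tot t.X' t.δX'} (h : ∀ j, ra' sj hp hX t j x = ra' sj hp hX t j y) : x = y :=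
  haveI := (setup_sqX hX t).1
  haveI := fun j => (setup_V sj hp hX t j).1
  (pieces_a' sj hp t).eq_of_res (fun j => compat_a' sj hp t j) (setup_sqX hX t).2.2 h

variable {p : ℤ} (d : ∀ j, _root_.Bivar.Cl p (sj j).f' (sj j).δX' (sj j).δY')

/-- The operation on a piece. -/
def D (j : J) : Tot (U sj t j) (fun z => t.δY' (a sj t j z)) →+
    Tot (V sj t j) (fun z => t.δX' (a' sj t j z)) :=
  totOp fun m => (d j).op (sub sj hp t j) m

include hX hY in
theorem exists_cls {m : ℤ} {α : AlgebraicCycle t.Y' ℤ} (hα : α ∈ Cyc.Zk t.Y' t.δY' m) :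
    ∃ β hβ, ∀ j, ra' sj hp hX t j (cls t.δX' (m - p) β hβ) =
      D sj hp t d j (ra sj hp hY t j (cls t.δY' m α hα)) := by
  haveI := (setup_sqY hY t).1
  haveI := (setup_sqX hX t).1
  haveI := fun j => (setup_U sj hp hY t j).1
  haveI := fun j => (setup_V sj hp hX t j).1
  have h1 : ∀ j, ∃ β, ∃ (hβ : β ∈ Cyc.Zk (V sj t j) (fun z => t.δX' (a' sj t j z)) (m - p)),
      D sj hp t d j (ra sj hp hY t j (cls t.δY' m α hα)) = cls _ (m - p) β hβ := fun j => by
    haveI := isOpen_a sj hp t j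
    obtain ⟨α₁, hα₁, e⟩ := PullExists.exists_pullFun (δX := fun z => t.δY' (a sj t j z)) (a sj t j) 0 hα
    have hα₁' : α₁ ∈ Cyc.Zk (U sj t j) (fun z => t.δY' (a sj t j z)) m := by rwa [add_zero] at hα₁
    obtain ⟨β, hβ, eβ⟩ := _root_.Bivar.exists_rep ((d j).op (sub sj hp t j) m (ChowOps.cl α₁ hα₁'))
    refine ⟨β, hβ, ?_⟩
    rw [D, show ra sj hp hY t j (cls t.δY' m α hα) = cls _ m α₁ hα₁' from
      pull_cls _ _ _ _ hα (add_zero m).symm hα₁' e]
    exact totOp_cls (fun m => (d j).op (sub sj hp t j) m) eβ.symm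
  choose β hβ eβ using h1
  obtain ⟨γ, hγ⟩ := (pieces_a' sj hp t).exists_glue β
  have hγm : γ ∈ Cyc.Zk t.X' t.δX' (m - p) := fun x hx => by
    obtain ⟨j, z, rfl⟩ := (pieces_a' sj hp t).cov x
    rw [hγ j z]
    exact hβ j z hx
  refine ⟨γ, hγm, fun j => ?_⟩
  rw [eβ j]
  exact (pieces_a' sj hp t).res_cls (fun j => compat_a' sj hp t j) (setup_sqX hX t).2.2 j hγm (hβ j)
    (fun z => (hγ j z).symm)

include hX hY in
theorem exists_E (y : Tot t.Y' t.δY') :
    ∃ x : Tot t.X' t.δX', ∀ j, ra' sj hp hX t j x = D sj hp t d j (ra sj hp hY t j y) := by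
  induction y using DirectSum.induction_on with
  | zero => exact ⟨0, fun j => by simp⟩
  | add x y hx hy =>
    obtain ⟨x', hx'⟩ := hx
    obtain ⟨y', hy'⟩ := hy
    exact ⟨x' + y', fun j => by simp [hx', hy']⟩
  | of m z =>
    obtain ⟨α, hα, rfl⟩ := _root_.Bivar.exists_rep z
    obtain ⟨β, hβ, e⟩ := exists_cls sj hp hX hY t d hα
    exact ⟨_, e⟩

/-- The glued operation. -/
def E : Tot t.Y' t.δY' →+ Tot t.X' t.δX' where
  toFun y := (exists_E sj hp hX hY t d y).choose
  map_zero' := eq_of_ra' sj hp hX t fun j => by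
    rw [(exists_E sj hp hX hY t d 0).choose_spec j, map_zero, map_zero, map_zero]
  map_add' x y := eq_of_ra' sj hp hX t fun j => by
    rw [(exists_E sj hp hX hY t d (x + y)).choose_spec j, map_add, map_add, map_add,
      (exists_E sj hp hX hY t d x).choose_spec j, (exists_E sj hp hX hY t d y).choose_spec j]

theorem ra'_E (j : J) (y : Tot t.Y' t.δY') :
    ra' sj hp hX t j (E sj hp hX hY t d y) = D sj hp t d j (ra sj hp hY t j y) :=
  (exists_E sj hp hX hY t d y).choose_spec j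

theorem exists_E_cls {m : ℤ} {α : AlgebraicCycle t.Y' ℤ} (hα : α ∈ Cyc.Zk t.Y' t.δY' m) :
    ∃ β hβ, E sj hp hX hY t d (cls t.δY' m α hα) = cls t.δX' (m - p) β hβ := by
  obtain ⟨β, hβ, e⟩ := exists_cls sj hp hX hY t d hα
  exact ⟨β, hβ, eq_of_ra' sj hp hX t fun j => by rw [ra'_E, e j]⟩

end Setup

section Maps

variable {s t : _root_.Bivar.Sq f δX δY} (h : t.Y' ⟶ s.Y') (h' : t.X' ⟶ s.X') (w₁ : h ≫ s.g = t.g)
  (w₂ : h' ≫ s.f' = t.f' ≫ h) (w₃ : h' ≫ s.g' = t.g') (j : J)

/-- The map of pieces of test schemes. -/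
def hU : U sj t j ⟶ U sj s j :=
  pullback.lift (a sj t j ≫ h) (b sj t j) (by rw [Category.assoc, w₁]; exact pullback.condition)

theorem hU_a : hU sj h w₁ j ≫ a sj s j = a sj t j ≫ h := pullback.lift_fst _ _ _

theorem hU_b : hU sj h w₁ j ≫ b sj s j = b sj t j := pullback.lift_snd _ _ _

theorem isPullback_hU : IsPullback (hU sj h w₁ j) (a sj t j) (a sj s j) h :=
  IsPullback.of_right
    (by
      rw [hU_b, w₁]
      exact (IsPullback.of_hasPullback t.g (sj j).g).flip)
    (hU_a sj h w₁ j) (IsPullback.of_hasPullback s.g (sj j).g).flip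

/-- The map of pieces of sources. -/
def hV : V sj t j ⟶ V sj s j :=
  pullback.lift (q sj t j ≫ hU sj h w₁ j) (a' sj t j ≫ h') (by
    rw [Category.assoc, hU_a, ← Category.assoc, pullback.condition, Category.assoc, Category.assoc, w₂])

theorem hV_q : hV sj h h' w₁ w₂ j ≫ q sj s j = q sj t j ≫ hU sj h w₁ j := pullback.lift_fst _ _ _

theorem hV_a' : hV sj h h' w₁ w₂ j ≫ a' sj s j = a' sj t j ≫ h' := pullback.lift_snd _ _ _

include w₃ in
theorem hV_b' : hV sj h h' w₁ w₂ j ≫ b' sj s j = b' sj t j :=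
  (sj j).isPullback.hom_ext
    (by
      rw [Category.assoc, b'_f, b'_f, ← Category.assoc, hV_q, Category.assoc, hU_b])
    (by
      rw [Category.assoc, b'_g, b'_g, ← Category.assoc, hV_a', Category.assoc, w₃])

include w₃ in
theorem isPullback_hV : IsPullback (hV sj h h' w₁ w₂ j) (a' sj t j) (a' sj s j) h' :=
  IsPullback.of_right
    (by
      rw [hV_q, w₂]
      exact (IsPullback.of_hasPullback (a sj t j) t.f').paste_horiz (isPullback_hU sj h w₁ j))
    (hV_a' sj h h' w₁ w₂ j) (IsPullback.of_hasPullback (a sj s j) s.f')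

end Maps

section Class

variable (hX : Cyc.IsSetup X δX) (hY : Cyc.IsSetup Y δY) {p : ℤ}
  (d : ∀ j, _root_.Bivar.Cl p (sj j).f' (sj j).δX' (sj j).δY')

include hX hY in
theorem E_push (s t : _root_.Bivar.Sq f δX δY) [IsLocallyNoetherian s.Y'] [IsLocallyNoetherian t.Y']
    [IsLocallyNoetherian s.X'] [IsLocallyNoetherian t.X'] (h : t.Y' ⟶ s.Y') [IsProper h] (h' : t.X' ⟶ s.X')
    [IsProper h'] (w₁ : h ≫ s.g = t.g) (w₂ : h' ≫ s.f' = t.f' ≫ h) (w₃ : h' ≫ s.g' = t.g')
    (hc : Cyc.DeltaCompat h t.δY' s.δY') (hc' : Cyc.DeltaCompat h' t.δX' s.δX') (y : Tot t.Y' t.δY') :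
    E sj hp hX hY s d (push (setup_sqY hY t).2.2 (setup_sqY hY s).2.2 h hc y) =
      push (setup_sqX hX t).2.2 (setup_sqX hX s).2.2 h' hc' (E sj hp hX hY t d y) := by
  refine eq_of_ra' sj hp hX s fun j => ?_
  haveI := (setup_U sj hp hY s j).1
  haveI := (setup_U sj hp hY t j).1
  haveI := (setup_V sj hp hX s j).1
  haveI := (setup_V sj hp hX t j).1
  haveI := isOpen_a sj hp s j
  haveI := isOpen_a sj hp t j
  haveI := isOpen_a' sj hp s j
  haveI := isOpen_a' sj hp t j
  haveI : IsProper (hU sj h w₁ j) :=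
    MorphismProperty.of_isPullback (isPullback_hU sj h w₁ j).flip inferInstance
  haveI : IsProper (hV sj h h' w₁ w₂ j) :=
    MorphismProperty.of_isPullback (isPullback_hV sj h h' w₁ w₂ w₃ j).flip inferInstance
  have hcU := compat_of_comp (hU sj h w₁ j) (hU_b sj h w₁ j) (sub sj hp s j).compatY (sub sj hp t j).compatY
  have hcV := compat_of_comp (hV sj h h' w₁ w₂ j) (hV_b' sj h h' w₁ w₂ w₃ j) (sub sj hp s j).compatX
    (sub sj hp t j).compatX
  have e1 : ra sj hp hY s j (push (setup_sqY hY t).2.2 (setup_sqY hY s).2.2 h hc y) =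
      push (setup_U sj hp hY t j).2.2 (setup_U sj hp hY s j).2.2 (hU sj h w₁ j) hcU (ra sj hp hY t j y) :=
    pull_push (setup_sqY hY s).2.2 (setup_U sj hp hY s j).2.2 (setup_sqY hY t).2.2 (setup_U sj hp hY t j).2.2
      (isPullback_hU sj h w₁ j) hc hcU (shift_restrict _) (shift_restrict _) y
  have e2 : ra' sj hp hX s j (push (setup_sqX hX t).2.2 (setup_sqX hX s).2.2 h' hc' (E sj hp hX hY t d y)) =
      push (setup_V sj hp hX t j).2.2 (setup_V sj hp hX s j).2.2 (hV sj h h' w₁ w₂ j) hcV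
        (ra' sj hp hX t j (E sj hp hX hY t d y)) :=
    pull_push (setup_sqX hX s).2.2 (setup_V sj hp hX s j).2.2 (setup_sqX hX t).2.2 (setup_V sj hp hX t j).2.2
      (isPullback_hV sj h h' w₁ w₂ w₃ j) hc' hcV (shift_restrict _) (shift_restrict _) _
  rw [ra'_E, e1, e2, ra'_E]
  exact (push_totOp (setup_U sj hp hY s j).2.2 (setup_V sj hp hX s j).2.2 (setup_U sj hp hY t j).2.2
    (setup_V sj hp hX t j).2.2 (fun m => (d j).op (sub sj hp s j) m) (fun m => (d j).op (sub sj hp t j) m)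
    (hU sj h w₁ j) (hV sj h h' w₁ w₂ j) hcU hcV
    (fun m => (d j).push (sub sj hp s j) (sub sj hp t j) (hU sj h w₁ j) (hV sj h h' w₁ w₂ j)
      (hU_b sj h w₁ j) (hV_q sj h h' w₁ w₂ j) (hV_b' sj h h' w₁ w₂ w₃ j) m) _).symm

include hX hY in
theorem E_pull (s t : _root_.Bivar.Sq f δX δY) [IsLocallyNoetherian s.Y'] [IsLocallyNoetherian t.Y']
    [IsLocallyNoetherian s.X'] [IsLocallyNoetherian t.X'] (h : t.Y' ⟶ s.Y') [Flat h] [LocallyOfFiniteType h]
    (h' : t.X' ⟶ s.X') [Flat h'] [LocallyOfFiniteType h'] (w₁ : h ≫ s.g = t.g) (w₂ : h' ≫ s.f' = t.f' ≫ h)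
    (w₃ : h' ≫ s.g' = t.g') {r : ℕ} (hr : Cyc.HasRelDim h r) (hr' : Cyc.HasRelDim h' r)
    (hc : FP.Main.Shift h t.δY' s.δY' r) (hc' : FP.Main.Shift h' t.δX' s.δX' r) (y : Tot s.Y' s.δY') :
    pull (setup_sqX hX t).2.2 (setup_sqX hX s).2.2 h' hc' (E sj hp hX hY s d y) =
      E sj hp hX hY t d (pull (setup_sqY hY t).2.2 (setup_sqY hY s).2.2 h hc y) := by
  refine eq_of_ra' sj hp hX t fun j => ?_
  haveI := (setup_U sj hp hY s j).1
  haveI := (setup_U sj hp hY t j).1
  haveI := (setup_V sj hp hX s j).1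
  haveI := (setup_V sj hp hX t j).1
  haveI := isOpen_a sj hp s j
  haveI := isOpen_a sj hp t j
  haveI := isOpen_a' sj hp s j
  haveI := isOpen_a' sj hp t j
  haveI : Flat (hU sj h w₁ j) := MorphismProperty.of_isPullback (isPullback_hU sj h w₁ j).flip inferInstance
  haveI : LocallyOfFiniteType (hU sj h w₁ j) :=
    MorphismProperty.of_isPullback (isPullback_hU sj h w₁ j).flip inferInstance
  haveI : Flat (hV sj h h' w₁ w₂ j) :=
    MorphismProperty.of_isPullback (isPullback_hV sj h h' w₁ w₂ w₃ j).flip inferInstance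
  haveI : LocallyOfFiniteType (hV sj h h' w₁ w₂ j) :=
    MorphismProperty.of_isPullback (isPullback_hV sj h h' w₁ w₂ w₃ j).flip inferInstance
  have hrU := (Groth.Agent.S9358.result h (a sj s j) (a sj t j) (hU sj h w₁ j)
    (isPullback_hU sj h w₁ j).flip r).2.2 hr
  have hrV := (Groth.Agent.S9358.result h' (a' sj s j) (a' sj t j) (hV sj h h' w₁ w₂ j)
    (isPullback_hV sj h h' w₁ w₂ w₃ j).flip r).2.2 hr'
  have hcU := FP.Main.shift_of_hasRelDim (hU sj h w₁ j) hrU
    (compat_of_comp (hU sj h w₁ j) (hU_b sj h w₁ j) (sub sj hp s j).compatY (sub sj hp t j).compatY)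
  have hcV := FP.Main.shift_of_hasRelDim (hV sj h h' w₁ w₂ j) hrV
    (compat_of_comp (hV sj h h' w₁ w₂ j) (hV_b' sj h h' w₁ w₂ w₃ j) (sub sj hp s j).compatX
      (sub sj hp t j).compatX)
  have e1 : ra sj hp hY t j (pull (setup_sqY hY t).2.2 (setup_sqY hY s).2.2 h hc y) =
      pull (setup_U sj hp hY t j).2.2 (setup_U sj hp hY s j).2.2 (hU sj h w₁ j) hcU (ra sj hp hY s j y) :=
    (pull_comp _ _ (a sj t j) (shift_restrict _) _ h hc (a sj t j ≫ h) rfl
      (FibLen.shift_comp (a sj t j) h _ t.δY' s.δY' 0 r (shift_restrict _) hc) rfl y).trans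
      (pull_comp _ _ (hU sj h w₁ j) hcU _ (a sj s j) (shift_restrict _) (a sj t j ≫ h) (hU_a sj h w₁ j)
        (FibLen.shift_comp (a sj t j) h _ t.δY' s.δY' 0 r (shift_restrict _) hc) (by ring) y).symm
  have e2 : ra' sj hp hX t j (pull (setup_sqX hX t).2.2 (setup_sqX hX s).2.2 h' hc' (E sj hp hX hY s d y)) =
      pull (setup_V sj hp hX t j).2.2 (setup_V sj hp hX s j).2.2 (hV sj h h' w₁ w₂ j) hcV
        (ra' sj hp hX s j (E sj hp hX hY s d y)) :=
    (pull_comp _ _ (a' sj t j) (shift_restrict _) _ h' hc' (a' sj t j ≫ h') rfl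
      (FibLen.shift_comp (a' sj t j) h' _ t.δX' s.δX' 0 r (shift_restrict _) hc') rfl _).trans
      (pull_comp _ _ (hV sj h h' w₁ w₂ j) hcV _ (a' sj s j) (shift_restrict _) (a' sj t j ≫ h')
        (hV_a' sj h h' w₁ w₂ j)
        (FibLen.shift_comp (a' sj t j) h' _ t.δX' s.δX' 0 r (shift_restrict _) hc') (by ring) _).symm
  rw [e2, ra'_E, ra'_E, e1]
  exact pull_totOp (setup_U sj hp hY s j).2.2 (setup_V sj hp hX s j).2.2 (setup_U sj hp hY t j).2.2
    (setup_V sj hp hX t j).2.2 (fun m => (d j).op (sub sj hp s j) m) (fun m => (d j).op (sub sj hp t j) m)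
    (hU sj h w₁ j) (hV sj h h' w₁ w₂ j) hcU hcV
    (fun m => (d j).pull (sub sj hp s j) (sub sj hp t j) (hU sj h w₁ j) (hV sj h h' w₁ w₂ j) r hrU hrV
      (hU_b sj h w₁ j) (hV_q sj h h' w₁ w₂ j) (hV_b' sj h h' w₁ w₂ w₃ j) m) _

include hX hY in
theorem E_gys (s : _root_.Bivar.Sq f δX δY) {Yt Xt : Scheme.{u}} (gt : Yt ⟶ Y) (ft : Xt ⟶ Yt) (gt' : Xt ⟶ X)
    (sq : IsPullback ft gt' gt f) (lt : LocallyOfFiniteType gt) (i : Yt ⟶ s.Y') [IsClosedImmersion i]
    (i' : Xt ⟶ s.X') [IsClosedImmersion i'] (cY : Cyc.DeltaCompat gt (fun z => s.δY' (i z)) δY)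
    (cX : Cyc.DeltaCompat gt' (fun z => s.δX' (i' z)) δX) (w₁ : i ≫ s.g = gt) (w₂ : i' ≫ s.f' = ft ≫ i)
    (w₃ : i' ≫ s.g' = gt') [IsLocallyNoetherian s.Y'] [IsLocallyNoetherian Yt] [IsLocallyNoetherian s.X']
    [IsLocallyNoetherian Xt] {L : s.Y'.Modules} (hL : PicF.IsInvertible L)
    {σ : L.presheaf.obj (Opposite.op ⊤)} (hσ : Cyc.IsZeroSchemeOf i L σ)
    {τ : ((Scheme.Modules.pullback s.f').obj L).presheaf.obj (Opposite.op ⊤)}
    (hτ : Cyc.IsZeroSchemeOf i' ((Scheme.Modules.pullback s.f').obj L) τ)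
    {v : (ξ : s.Y') → Cyc.secFibre L ξ} (hv : ∀ ξ, v ξ ≠ 0)
    {v' : (ξ : s.X') → Cyc.secFibre ((Scheme.Modules.pullback s.f').obj L) ξ} (hv' : ∀ ξ, v' ξ ≠ 0)
    (y : Tot s.Y' s.δY') :
    gys i' (setup_sqX hX s).2.2 (PicLoc.isInvertible_pullback s.f' hL) hτ hv' (E sj hp hX hY s d y) =
      E sj hp hX hY ⟨Yt, Xt, gt, ft, gt', sq, lt, _, _, cY, cX⟩ d (gys i (setup_sqY hY s).2.2 hL hσ hv y) := by
  let t : _root_.Bivar.Sq f δX δY := ⟨Yt, Xt, gt, ft, gt', sq, lt, _, _, cY, cX⟩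
  refine eq_of_ra' sj hp hX t fun j => ?_
  haveI := (setup_U sj hp hY s j).1
  haveI := (setup_U sj hp hY t j).1
  haveI := (setup_V sj hp hX s j).1
  haveI := (setup_V sj hp hX t j).1
  haveI := isOpen_a sj hp s j
  haveI := isOpen_a sj hp t j
  haveI := isOpen_a' sj hp s j
  haveI := isOpen_a' sj hp t j
  let iU := hU sj (s := s) (t := t) i w₁ j
  let iV := hV sj (s := s) (t := t) i i' w₁ w₂ j
  have sqU : IsPullback iU (a sj t j) (a sj s j) i := isPullback_hU sj (s := s) (t := t) i w₁ j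
  have sqV : IsPullback iV (a' sj t j) (a' sj s j) i' :=
    isPullback_hV sj (s := s) (t := t) i i' w₁ w₂ w₃ j
  haveI : IsClosedImmersion iU := MorphismProperty.of_isPullback sqU.flip inferInstance
  haveI : IsClosedImmersion iV := MorphismProperty.of_isPullback sqV.flip inferInstance
  have hLU := PicLoc.isInvertible_pullback (a sj s j) hL
  have hN := PicLoc.isInvertible_pullback s.f' hL
  have hNV := PicLoc.isInvertible_pullback (a' sj s j) hN
  have hQ := PicLoc.isInvertible_pullback (q sj s j) hLU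
  obtain ⟨σU, hσU⟩ := Ext.exists_zero_square sqU hL hσ
  obtain ⟨τV, hτV⟩ := Ext.exists_zero_square sqV hN hτ
  obtain ⟨τQ, hτQ⟩ := Ext.exists_zero_square
    (show IsPullback iV (q sj t j) (q sj s j) iU from
      IsPullback.of_bot
        (by
          rw [pullback.condition (f := a sj t j) (g := ft), pullback.condition (f := a sj s j) (g := s.f')]
          exact sqV.paste_vert (isPullback_map s t i i' w₁ w₂ w₃))
        (hV_q sj (s := s) (t := t) i i' w₁ w₂ j) sqU)
    hLU hσU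
  obtain ⟨vU, hvU⟩ := exists_sections hLU
  obtain ⟨vV, hvV⟩ := exists_sections hNV
  obtain ⟨vQ, hvQ⟩ := exists_sections hQ
  have hfU : (fun z => s.δY' (a sj s j (iU z))) = fun z => s.δY' (i (a sj t j z)) := funext fun z => by
    rw [← Scheme.Hom.comp_apply, ← Scheme.Hom.comp_apply, sqU.w]
  have hfV : (fun z => s.δX' (a' sj s j (iV z))) = fun z => s.δX' (i' (a' sj t j z)) := funext fun z => by
    rw [← Scheme.Hom.comp_apply, ← Scheme.Hom.comp_apply, sqV.w]
  have hqU : FP.Main.Shift (a sj t j) (fun z => s.δY' (a sj s j (iU z))) (fun z => s.δY' (i z)) 0 :=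
    hfU ▸ shift_restrict (a sj t j) (δ := fun z => s.δY' (i z))
  have hqV : FP.Main.Shift (a' sj t j) (fun z => s.δX' (a' sj s j (iV z))) (fun z => s.δX' (i' z)) 0 :=
    hfV ▸ shift_restrict (a' sj t j) (δ := fun z => s.δX' (i' z))
  have e1 := gys_pull_square (a sj s j) i iU (a sj t j) (setup_sqY hY s).2.2 (setup_U sj hp hY s j).2.2
    hL hσ hσU hv hvU sqU (shift_restrict (a sj s j)) hqU y
  have e2 := gys_pull_square (a' sj s j) i' iV (a' sj t j) (setup_sqX hX s).2.2 (setup_V sj hp hX s j).2.2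
    hN hτ hτV hv' hvV sqV (shift_restrict (a' sj s j)) hqV (E sj hp hX hY s d y)
  have e3 : pull (setup_V sj hp hX s j).2.2 (setup_sqX hX s).2.2 (a' sj s j) (shift_restrict (a' sj s j))
      (E sj hp hX hY s d y) = D sj hp s d j (ra sj hp hY s j y) := ra'_E sj hp hX hY s d j y
  have eN : (Scheme.Modules.pullback (a' sj s j)).obj ((Scheme.Modules.pullback s.f').obj L) ≅
      (Scheme.Modules.pullback (q sj s j)).obj ((Scheme.Modules.pullback (a sj s j)).obj L) :=
    (Scheme.Modules.pullbackComp (a' sj s j) s.f').app L ≪≫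
      (Scheme.Modules.pullbackCongr pullback.condition.symm).app L ≪≫
      ((Scheme.Modules.pullbackComp (q sj s j) (a sj s j)).app L).symm
  rw [e3, gys_unique iV eN.symm (setup_V sj hp hX s j).2.2 hQ hNV hτQ hτV hvQ hvV] at e2
  rw [ra'_E]
  have key : ∀ (δU : U sj t j → ℤ) (δV : V sj t j → ℤ)
      (eU : δU = fun z => s.δY' (a sj s j (iU z))) (eV : δV = fun z => s.δX' (a' sj s j (iV z)))
      (cU : Cyc.DeltaCompat (b sj t j) δU (sj j).δY') (cV : Cyc.DeltaCompat (b' sj t j) δV (sj j).δX')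
      (dU : Cyc.IsDimFun (U sj t j) δU) (dV : Cyc.IsDimFun (V sj t j) δV)
      (shU : FP.Main.Shift (a sj t j) δU (fun z => s.δY' (i z)) 0)
      (shV : FP.Main.Shift (a' sj t j) δV (fun z => s.δX' (i' z)) 0),
      pull dV (Gys.Closed.isDimFun i' (setup_sqX hX s).2.2) (a' sj t j) shV
          (gys i' (setup_sqX hX s).2.2 hN hτ hv' (E sj hp hX hY s d y)) =
        totOp (fun m => (d j).op
            ⟨U sj t j, V sj t j, b sj t j, q sj t j, b' sj t j, isPullback_sub sj t j,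
              (sub sj hp t j).lft, δU, δV, cU, cV⟩ m)
          (pull dU (Gys.Closed.isDimFun i (setup_sqY hY s).2.2) (a sj t j) shU
            (gys i (setup_sqY hY s).2.2 hL hσ hv y)) := by
    intro δU δV eU eV cU cV dU dV shU shV
    subst eU eV
    refine e2.symm.trans (Eq.trans ?_ (congrArg _ e1))
    exact gys_totOp (setup_U sj hp hY s j).2.2 (setup_V sj hp hX s j).2.2 iU iV hLU hσU hvU hQ hτQ hvQ
      (fun m => (d j).op (sub sj hp s j) m) _
      (fun m => (d j).gysin (sub sj hp s j)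
        ⟨U sj t j, V sj t j, b sj t j, q sj t j, b' sj t j, isPullback_sub sj t j,
          (sub sj hp t j).lft, _, _, cU, cV⟩ iU iV
        (hU_b sj (s := s) (t := t) i w₁ j) (hV_q sj (s := s) (t := t) i i' w₁ w₂ j)
        (hV_b' sj (s := s) (t := t) i i' w₁ w₂ w₃ j) _ hLU σU hσU τQ hτQ m) _
  exact key _ _ hfU.symm hfV.symm (sub sj hp t j).compatY (sub sj hp t j).compatX (setup_U sj hp hY t j).2.2
    (setup_V sj hp hX t j).2.2 (shift_restrict (a sj t j) (δ := fun z => s.δY' (i z)))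
    (shift_restrict (a' sj t j) (δ := fun z => s.δX' (i' z)))

end Class

end Groth.Agent.Lib.Cyc.Bivar.Clopen

namespace Groth.Agent.Lib.Cyc.Bivar.Clopen

open Groth.Agent.Lib Groth.Agent.Lib.Cyc Groth.Agent.Lib.Cyc.CH PieceCover

variable {X Y : Scheme.{u}} {f : X ⟶ Y} {δX : X → ℤ} {δY : Y → ℤ} {J : Type u}
  (sj : J → _root_.Bivar.Sq f δX δY) (hp : IsPieces fun j => (sj j).g)
  (hX : Cyc.IsSetup X δX) (hY : Cyc.IsSetup Y δY) {p : ℤ}
  (d : ∀ j, _root_.Bivar.Cl p (sj j).f' (sj j).δX' (sj j).δY')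

/-- The Gysin axiom for the glued operations. -/
theorem glue_gysin (s : _root_.Bivar.Sq f δX δY) {Yt Xt : Scheme.{u}} (gt : Yt ⟶ Y) (ft : Xt ⟶ Yt)
    (gt' : Xt ⟶ X) (sq : IsPullback ft gt' gt f) (lt : LocallyOfFiniteType gt) (δy : Yt → ℤ) (δx : Xt → ℤ)
    (cy : Cyc.DeltaCompat gt δy δY) (cx : Cyc.DeltaCompat gt' δx δX) (i : Yt ⟶ s.Y') [IsClosedImmersion i]
    (i' : Xt ⟶ s.X') [IsClosedImmersion i'] (w₁ : i ≫ s.g = gt) (w₂ : i' ≫ s.f' = ft ≫ i)
    (w₃ : i' ≫ s.g' = gt') {L : s.Y'.Modules} (hL : PicF.IsInvertible L)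
    {σ : L.presheaf.obj (Opposite.op ⊤)} (hσ : Cyc.IsZeroSchemeOf i L σ)
    {τ : ((Scheme.Modules.pullback s.f').obj L).presheaf.obj (Opposite.op ⊤)}
    (hτ : Cyc.IsZeroSchemeOf i' ((Scheme.Modules.pullback s.f').obj L) τ) (m : ℤ) :
    _root_.Bivar.GysinOK s.δY' δy s.δX' δx i L σ i' ((Scheme.Modules.pullback s.f').obj L) τ
      (Bivar.atDeg (E sj hp hX hY s d) m (m - p))
      (Bivar.atDeg (E sj hp hX hY ⟨Yt, Xt, gt, ft, gt', sq, lt, δy, δx, cy, cx⟩ d) (m - 1) (m - 1 - p)) := by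
  haveI := (setup_sqY hY s).1
  haveI := (setup_sqX hX s).1
  haveI := LocallyOfFiniteType.isLocallyNoetherian i
  haveI := LocallyOfFiniteType.isLocallyNoetherian i'
  have hi := delta_eq_of_closed i (compat_of_comp i w₁ s.compatY cy)
  have hi' := delta_eq_of_closed i' (compat_of_comp i' w₃ s.compatX cx)
  subst hi hi'
  intro α hα
  obtain ⟨β, hβ, e⟩ := exists_E_cls sj hp hX hY s d hα
  refine ⟨β, hβ, Bivar.atDeg_cl _ e, fun v hv γ hγc hγ v' hv' => ?_⟩
  obtain ⟨ζ, hζ, eζ⟩ := exists_gys_cycle i' (setup_sqX hX s).2.2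
    (PicLoc.isInvertible_pullback s.f' hL) (s := τ) hv' hβ
  have hζ' : ζ ∈ Cyc.Zk Xt (fun z => s.δX' (i' z)) (m - 1 - p) := by
    rwa [show m - 1 - p = m - p - 1 by ring]
  refine ⟨ζ, hζ', eζ, Bivar.atDeg_cl (E sj hp hX hY ⟨Yt, Xt, gt, ft, gt', sq, lt, _, _, cy, cx⟩ d) ?_⟩
  rw [← gys_cls i (setup_sqY hY s).2.2 hL hσ hv hα rfl hγ hγc,
    ← gys_cls i' (setup_sqX hX s).2.2 (PicLoc.isInvertible_pullback s.f' hL) hτ hv' hβ
      (show m - 1 - p = m - p - 1 by ring) hζ' eζ, ← e]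
  exact (E_gys sj hp hX hY d s gt ft gt' sq lt i i' cy cx w₁ w₂ w₃ hL hσ hτ hv hv' _).symm

/-- The class glued from classes on the pieces. -/
def glue : _root_.Bivar.Cl p f δX δY where
  op t m := Bivar.atDeg (E sj hp hX hY t d) m (m - p)
  push s t h _ h' _ w₁ w₂ w₃ m α hα := by
    haveI := (setup_sqY hY s).1
    haveI := (setup_sqY hY t).1
    haveI := (setup_sqX hX s).1
    haveI := (setup_sqX hX t).1
    have hc := compat_of_comp h w₁ s.compatY t.compatY
    have hc' := compat_of_comp h' w₃ s.compatX t.compatX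
    obtain ⟨β, hβ, e⟩ := exists_E_cls sj hp hX hY t d hα
    refine ⟨β, hβ, Bivar.atDeg_cl _ e,
      Bivar.atDeg_cl (E sj hp hX hY s d) (hβ := map_mem h' hβ) ?_⟩
    rw [← push_cls (setup_sqY hY t).2.2 (setup_sqY hY s).2.2 h hc hα rfl (map_mem h hα),
      ← push_cls (setup_sqX hX t).2.2 (setup_sqX hX s).2.2 h' hc' hβ rfl (map_mem h' hβ), ← e]
    exact E_push sj hp hX hY d s t h h' w₁ w₂ w₃ hc hc' _
  pull s t h _ h' _ r hr hr' w₁ w₂ w₃ m α hα := by
    haveI := (setup_sqY hY s).1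
    haveI := (setup_sqY hY t).1
    haveI := (setup_sqX hX s).1
    haveI := (setup_sqX hX t).1
    haveI := s.lft
    haveI : LocallyOfFiniteType h := lft_of_comp w₁ t.lft
    haveI : LocallyOfFiniteType h' := lft_of_comp w₃
      (MorphismProperty.of_isPullback t.isPullback t.lft)
    have hsh := FP.Main.shift_of_hasRelDim h hr (compat_of_comp h w₁ s.compatY t.compatY)
    have hsh' := FP.Main.shift_of_hasRelDim h' hr' (compat_of_comp h' w₃ s.compatX t.compatX)
    obtain ⟨β, hβ, e⟩ := exists_E_cls sj hp hX hY s d hα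
    refine ⟨β, hβ, Bivar.atDeg_cl _ e, fun α₁ h₁ hα₁ => ?_⟩
    obtain ⟨β₁, hβ₁, e1⟩ := PullExists.exists_pullFun (δX := t.δX') h' (r : ℤ) hβ
    have hβ₁' : β₁ ∈ Cyc.Zk t.X' t.δX' (m + r - p) := by
      rwa [show m + (r : ℤ) - p = m - p + r by ring]
    refine ⟨β₁, hβ₁', e1, Bivar.atDeg_cl (E sj hp hX hY t d) ?_⟩
    rw [← pull_cls (setup_sqY hY t).2.2 (setup_sqY hY s).2.2 h hsh hα rfl hα₁ h₁,
      ← pull_cls (setup_sqX hX t).2.2 (setup_sqX hX s).2.2 h' hsh' hβ
        (show m + (r : ℤ) - p = m - p + r by ring) hβ₁' e1, ← e]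
    exact (E_pull sj hp hX hY d s t h h' w₁ w₂ w₃ hr hr' hsh hsh' _).symm
  gysin s t i _ i' _ w₁ w₂ w₃ L hL σ hσ τ hτ m :=
    glue_gysin sj hp hX hY d s t.g t.f' t.g' t.isPullback t.lft t.δY' t.δX' t.compatY t.compatX i i'
      w₁ w₂ w₃ hL hσ hτ m

include hX hY hp in
/-- Restricting along an open piece of a test scheme. -/
theorem opT_ra' (c : _root_.Bivar.Cl p f δX δY) (t : _root_.Bivar.Sq f δX δY) (j : J)
    (y : Tot t.Y' t.δY') :
    ra' sj hp hX t j (totOp (fun m => c.op t m) y) =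
      totOp (fun m => c.op ((sj j).paste (sub sj hp t j)) m) (ra sj hp hY t j y) := by
  haveI := (setup_sqY hY t).1
  haveI := (setup_sqX hX t).1
  haveI := (setup_U sj hp hY t j).1
  haveI := (setup_V sj hp hX t j).1
  haveI := isOpen_a sj hp t j
  haveI := isOpen_a' sj hp t j
  exact pull_totOp (r := ((0 : ℕ) : ℤ)) (setup_sqY hY t).2.2 (setup_sqX hX t).2.2 (setup_U sj hp hY t j).2.2
    (setup_V sj hp hX t j).2.2 (fun m => c.op t m) (fun m => c.op ((sj j).paste (sub sj hp t j)) m)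
    (a sj t j) (a' sj t j) (shift_restrict _) (shift_restrict _)
    (fun m => c.pull t ((sj j).paste (sub sj hp t j)) (a sj t j) (a' sj t j) 0
      (hasRelDim_of_shift (δ := t.δY') _ (compat_a sj hp t j) (shift_restrict _))
      (hasRelDim_of_shift (δ := t.δX') _ (compat_a' sj hp t j) (shift_restrict _))
      pullback.condition pullback.condition.symm (b'_g sj t j).symm m) y

theorem res_glue (j : J) : (glue sj hp hX hY d).res (sj j) = d j := by
  refine _root_.Bivar.Cl.ext (funext fun u => funext fun m => AddMonoidHom.ext fun x => ?_)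
  let t := (sj j).paste u
  haveI := (sj j).lft
  haveI := hp.isOpen j
  haveI := u.lft
  haveI := (setup_sqY hY t).1
  haveI := (setup_sqX hX t).1
  haveI := (setup_U sj hp hY t j).1
  haveI := (setup_V sj hp hX t j).1
  haveI := isOpen_a sj hp t j
  haveI := isOpen_a' sj hp t j
  have hb : b sj t j = a sj t j ≫ u.g := by
    rw [← cancel_mono (sj j).g, Category.assoc]
    exact pullback.condition.symm
  have hb' : b' sj t j = a' sj t j ≫ u.g' := by
    haveI : Mono (sj j).g' := by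
      haveI : IsOpenImmersion (sj j).g' :=
        MorphismProperty.of_isPullback (P := @IsOpenImmersion) (sj j).isPullback (hp.isOpen j)
      infer_instance
    rw [← cancel_mono (sj j).g', Category.assoc, b'_g]
  have h0 := fun y => pull_totOp (r := ((0 : ℕ) : ℤ)) (setup_sqY hY t).2.2 (setup_sqX hX t).2.2
    (setup_U sj hp hY t j).2.2 (setup_V sj hp hX t j).2.2 (fun m => (d j).op u m)
    (fun m => (d j).op (sub sj hp t j) m) (a sj t j) (a' sj t j) (shift_restrict _) (shift_restrict _)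
    (fun m => (d j).pull u (sub sj hp t j) (a sj t j) (a' sj t j) 0
      (hasRelDim_of_shift (δ := t.δY') _ (compat_a sj hp t j) (shift_restrict _))
      (hasRelDim_of_shift (δ := t.δX') _ (compat_a' sj hp t j) (shift_restrict _))
      hb.symm pullback.condition.symm hb'.symm m) y
  have h1 : ∀ y, E sj hp hX hY t d y = totOp (fun m => (d j).op u m) y := fun y =>
    eq_of_ra' sj hp hX t fun i => by
      by_cases h : i = j
      · subst h
        rw [ra'_E]
        exact (h0 y).symm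
      · haveI : IsEmpty (V sj t i) := ⟨fun z => Set.disjoint_left.1 (hp.disj i j h)
          ⟨b sj t i (q sj t i z), rfl⟩ ⟨u.g (a sj t i (q sj t i z)), by
            rw [← Scheme.Hom.comp_apply, ← Scheme.Hom.comp_apply, ← Scheme.Hom.comp_apply]
            exact congrArg (fun φ : V sj t i ⟶ Y => φ z)
              (congrArg (q sj t i ≫ ·) (pullback.condition (f := t.g) (g := (sj i).g)))⟩⟩
        haveI := (setup_V sj hp hX t i).1
        refine (eq_zero_of_proj fun m' => ?_).trans (eq_zero_of_proj fun m' => ?_).symm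
        all_goals
          obtain ⟨α, hα, e⟩ := exists_rep m' _
          rw [e]
          exact (cls_congr (h' := mem_zero) rfl (funext fun z => (IsEmpty.false z).elim)).trans cls_zero
  obtain ⟨α, hα, rfl⟩ := _root_.Bivar.exists_rep x
  obtain ⟨β, hβ, eβ⟩ := _root_.Bivar.exists_rep ((d j).op u m (ChowOps.cl α hα))
  rw [← eβ]
  exact Bivar.atDeg_cl (E sj hp hX hY t d) ((h1 _).trans (totOp_cls (fun m => (d j).op u m) eβ.symm))

include hX hY hp in
theorem res_injective (c c' : _root_.Bivar.Cl p f δX δY) (h : ∀ j, c.res (sj j) = c'.res (sj j)) : c = c' := by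
  refine _root_.Bivar.Cl.ext (funext fun t => funext fun m => AddMonoidHom.ext fun x => ?_)
  refine DirectSum.of_injective (β := fun m => ChowOps.CH t.X' t.δX' m) (m - p) ?_
  rw [← totOp_of (fun m => c.op t m), ← totOp_of (fun m => c'.op t m)]
  refine eq_of_ra' sj hp hX t fun j => ?_
  rw [opT_ra' sj hp hX hY c t j, opT_ra' sj hp hX hY c' t j]
  exact congrArg (fun c₀ : _root_.Bivar.Cl p (sj j).f' (sj j).δX' (sj j).δY' =>
    totOp (fun m => c₀.op (sub sj hp t j) m)
      (ra sj hp hY t j (DirectSum.of (fun m => ChowOps.CH t.Y' t.δY' m) m x))) (h j)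

end Groth.Agent.Lib.Cyc.Bivar.Clopen
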