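import Groth.Agent.Lib.Cyc.Bivar.Sq
import Groth.Agent.Lib.Cyc.CH.SquareOps
import Groth.Agent.S9358

/-!
# The flat pullback class
-/

set_option autoImplicit false
set_option linter.style.haveILetI false
universe u

open CategoryTheory CategoryTheory.Limits AlgebraicGeometry

noncomputable section

namespace Groth.Agent.Lib.Cyc.Bivar

open Groth.Agent.Lib Groth.Agent.Lib.Cyc Groth.Agent.Lib.Cyc.CH

variable {X Y : Scheme.{u}} {f : X ⟶ Y} {δX : X → ℤ} {δY : Y → ℤ}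

theorem flat_sq (hf : Flat f) (s : _root_.Bivar.Sq f δX δY) : Flat s.f' :=
  MorphismProperty.of_isPullback s.isPullback.flip hf

theorem lft_sq (hf : LocallyOfFiniteType f) (s : _root_.Bivar.Sq f δX δY) : LocallyOfFiniteType s.f' :=
  MorphismProperty.of_isPullback s.isPullback.flip hf

theorem relDim_sq [LocallyOfFiniteType f] {r : ℕ} (hr : Cyc.HasRelDim f r)
    (s : _root_.Bivar.Sq f δX δY) : Cyc.HasRelDim s.f' r :=
  (Groth.Agent.S9358.result f s.g s.g' s.f' s.isPullback.flip r).2.2 hr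

theorem shift_sq [Flat f] [LocallyOfFiniteType f] {r : ℕ} (hr : Cyc.HasRelDim f r) (hδ : Cyc.DeltaCompat f δX δY)
    (s : _root_.Bivar.Sq f δX δY) : FP.Main.Shift s.f' s.δX' s.δY' r :=
  haveI := lft_sq (f := f) inferInstance s
  haveI := flat_sq (f := f) inferInstance s
  FP.Main.shift_of_hasRelDim s.f' (relDim_sq hr s) (compat_f' hδ s)

variable (hX : Cyc.IsSetup X δX) (hY : Cyc.IsSetup Y δY) [Flat f] [LocallyOfFiniteType f] {r : ℕ}
  (hr : Cyc.HasRelDim f r) (hδ : Cyc.DeltaCompat f δX δY)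

/-- Flat pullback on one square. -/
def flatOp (s : _root_.Bivar.Sq f δX δY) : Tot s.Y' s.δY' →+ Tot s.X' s.δX' :=
  haveI := (setup_sqY hY s).1
  haveI := (setup_sqX hX s).1
  haveI := lft_sq (f := f) inferInstance s
  haveI := flat_sq (f := f) inferInstance s
  pull (setup_sqX hX s).2.2 (setup_sqY hY s).2.2 s.f' (shift_sq hr hδ s)

theorem exists_flatOp (s : _root_.Bivar.Sq f δX δY) {k : ℤ} {α : AlgebraicCycle s.Y' ℤ}
    (hα : α ∈ Cyc.Zk s.Y' s.δY' k) :
    ∃ β, ∃ hβ : β ∈ Cyc.Zk s.X' s.δX' (k - -(r : ℤ)),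
      ⇑β = Cyc.pullFun s.f' s.δX' s.δY' (r : ℤ) ⇑α ∧
        flatOp hX hY hr hδ s (cls s.δY' k α hα) = cls s.δX' (k - -(r : ℤ)) β hβ := by
  haveI := (setup_sqY hY s).1
  haveI := (setup_sqX hX s).1
  haveI := lft_sq (f := f) inferInstance s
  haveI := flat_sq (f := f) inferInstance s
  obtain ⟨β, hβ, e⟩ := PullExists.exists_pullFun (δX := s.δX') s.f' (r : ℤ) hα
  exact ⟨β, by rwa [sub_neg_eq_add], e, pull_cls _ _ s.f' _ hα (sub_neg_eq_add _ _) _ e⟩

/-- Flat pullback as a bivariant class. -/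
def flatClass : _root_.Bivar.Cl (-(r : ℤ)) f δX δY where
  op s k := atDeg (flatOp hX hY hr hδ s) k (k - -(r : ℤ))
  push s t h _ h' _ w₁ w₂ w₃ k α hα := by
    haveI := (setup_sqY hY s).1
    haveI := (setup_sqX hX s).1
    haveI := (setup_sqY hY t).1
    haveI := (setup_sqX hX t).1
    haveI := lft_sq (f := f) inferInstance s
    haveI := flat_sq (f := f) inferInstance s
    haveI := lft_sq (f := f) inferInstance t
    haveI := flat_sq (f := f) inferInstance t
    have hc := compat_of_comp h w₁ s.compatY t.compatY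
    have hc' := compat_of_comp h' w₃ s.compatX t.compatX
    have sq := isPullback_map s t h h' w₁ w₂ w₃
    obtain ⟨β, hβ, -, e⟩ := exists_flatOp hX hY hr hδ t hα
    refine ⟨β, hβ, atDeg_cl _ e, atDeg_cl (flatOp hX hY hr hδ s) (hβ := map_mem h' hβ) ?_⟩
    rw [← push_cls (setup_sqY hY t).2.2 (setup_sqY hY s).2.2 h hc hα rfl (map_mem h hα),
      ← push_cls (setup_sqX hX t).2.2 (setup_sqX hX s).2.2 h' hc' hβ rfl (map_mem h' hβ), ← e]
    exact pull_push (setup_sqY hY s).2.2 (setup_sqX hX s).2.2 (setup_sqY hY t).2.2 (setup_sqX hX t).2.2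
      sq hc hc' (shift_sq hr hδ s) (shift_sq hr hδ t) _
  pull s t h _ h' _ d hd hd' w₁ w₂ w₃ k α hα := by
    haveI := (setup_sqY hY s).1
    haveI := (setup_sqX hX s).1
    haveI := (setup_sqY hY t).1
    haveI := (setup_sqX hX t).1
    haveI := lft_sq (f := f) inferInstance s
    haveI := flat_sq (f := f) inferInstance s
    haveI := lft_sq (f := f) inferInstance t
    haveI := flat_sq (f := f) inferInstance t
    haveI := lft_of_comp w₁ t.lft
    haveI : LocallyOfFiniteType h' :=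
      lft_of_comp w₃ (MorphismProperty.of_isPullback t.isPullback t.lft)
    have hsh := FP.Main.shift_of_hasRelDim h hd (compat_of_comp h w₁ s.compatY t.compatY)
    have hsh' := FP.Main.shift_of_hasRelDim h' hd' (compat_of_comp h' w₃ s.compatX t.compatX)
    obtain ⟨β, hβ, -, e⟩ := exists_flatOp hX hY hr hδ s hα
    refine ⟨β, hβ, atDeg_cl _ e, fun α₁ h₁ hα₁ => ?_⟩
    obtain ⟨β₁, hβ₁, e1⟩ := PullExists.exists_pullFun (δX := t.δX') h' (d : ℤ) hβ
    have hβ₁' : β₁ ∈ Cyc.Zk t.X' t.δX' (k + d - -(r : ℤ)) := by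
      rwa [show k + (d : ℤ) - -(r : ℤ) = k - -(r : ℤ) + d by ring]
    refine ⟨β₁, hβ₁', e1, atDeg_cl (flatOp hX hY hr hδ t) ?_⟩
    rw [← pull_cls (setup_sqY hY t).2.2 (setup_sqY hY s).2.2 h hsh hα rfl hα₁ h₁,
      ← pull_cls (setup_sqX hX t).2.2 (setup_sqX hX s).2.2 h' hsh' hβ
        (show k + (d : ℤ) - -(r : ℤ) = k - -(r : ℤ) + d by ring) hβ₁' e1, ← e]
    have hcomp : FP.Main.Shift (t.f' ≫ h) t.δX' s.δY' ((r : ℤ) + d) :=
      FibLen.shift_comp t.f' h t.δX' t.δY' s.δY' r d (shift_sq hr hδ t) hsh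
    refine (pull_comp (setup_sqX hX t).2.2 (setup_sqY hY t).2.2 t.f' (shift_sq hr hδ t)
      (setup_sqY hY s).2.2 h hsh (t.f' ≫ h) rfl hcomp rfl _).trans ?_
    exact (pull_comp (setup_sqX hX t).2.2 (setup_sqX hX s).2.2 h' hsh' (setup_sqY hY s).2.2 s.f'
      (shift_sq hr hδ s) (t.f' ≫ h) w₂ hcomp (add_comm _ _) _).symm
  gysin s t i _ j _ w₁ w₂ w₃ L hL σ hσ τ hτ k α hα := by
    haveI := (setup_sqY hY s).1
    haveI := (setup_sqX hX s).1
    haveI := (setup_sqY hY t).1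
    haveI := (setup_sqX hX t).1
    haveI := lft_sq (f := f) inferInstance s
    haveI := flat_sq (f := f) inferInstance s
    haveI := lft_sq (f := f) inferInstance t
    haveI := flat_sq (f := f) inferInstance t
    have hi := delta_eq_of_closed i (compat_of_comp i w₁ s.compatY t.compatY)
    have hj := delta_eq_of_closed j (compat_of_comp j w₃ s.compatX t.compatX)
    have hsh : FP.Main.Shift t.f' (fun z => s.δX' (j z)) (fun d => s.δY' (i d)) (r : ℤ) :=
      hi ▸ hj ▸ shift_sq hr hδ t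
    have hL' := PicLoc.isInvertible_pullback s.f' hL
    obtain ⟨β, hβ, -, e⟩ := exists_flatOp hX hY hr hδ s hα
    refine ⟨β, hβ, atDeg_cl _ e, fun v hv γ hγc hγ v' hv' => ?_⟩
    obtain ⟨ζ, hζ, eζ⟩ := exists_gys_cycle j (setup_sqX hX s).2.2 hL' (s := τ) hv' hβ
    have hζ' : ζ ∈ Cyc.Zk t.X' t.δX' (k - 1 - -(r : ℤ)) := by
      rw [hj, show k - 1 - -(r : ℤ) = k - -(r : ℤ) - 1 by ring]
      exact hζ
    obtain ⟨ρ, hρ, eρ, e'⟩ := exists_flatOp hX hY hr hδ t hγ
    refine ⟨ζ, hζ', eζ, atDeg_cl (flatOp hX hY hr hδ t) (e'.trans ?_)⟩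
    have hγ' : γ ∈ Cyc.Zk t.Y' (fun d => s.δY' (i d)) (k - 1) := hi ▸ hγ
    have hρ' : ρ ∈ Cyc.Zk t.X' (fun z => s.δX' (j z)) (k - 1 - -(r : ℤ)) := hj ▸ hρ
    have key := gys_pull_square s.f' i j t.f' (setup_sqY hY s).2.2 (setup_sqX hX s).2.2 hL hσ hτ hv hv'
      (isPullback_map s t i j w₁ w₂ w₃) (shift_sq hr hδ s) hsh (cls s.δY' k α hα)
    rw [show pull (setup_sqX hX s).2.2 (setup_sqY hY s).2.2 s.f' (shift_sq hr hδ s) (cls s.δY' k α hα) =
        cls s.δX' _ β hβ from e, gys_cls j _ hL' hτ hv' hβ rfl hζ eζ,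
      gys_cls i _ hL hσ hv hα rfl hγ' hγc,
      pull_cls (Gys.Closed.isDimFun j (setup_sqX hX s).2.2) (Gys.Closed.isDimFun i (setup_sqY hY s).2.2)
        t.f' hsh hγ' (sub_neg_eq_add _ _) hρ' (by rw [eρ, hi, hj])] at key
    have key2 := key.symm.trans (cls_congr (h' := hj ▸ hζ') (show _ = k - 1 - -(r : ℤ) by ring) rfl)
    revert key2
    generalize hρ' = q₁
    revert q₁
    generalize (hj ▸ hζ' : ζ ∈ Cyc.Zk t.X' (fun z => s.δX' (j z)) (k - 1 - -(r : ℤ))) = q₂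
    revert q₂
    generalize hρ = p₁
    revert p₁
    generalize hζ' = p₂
    revert p₂
    rw [hj]
    intro _ _ _ _ h
    exact h

theorem isFlatPullClass_flatClass :
    _root_.Bivar.IsFlatPullClass f r (flatClass hX hY hr hδ) :=
  ⟨inferInstance, inferInstance, hr, hδ, fun s k α hα α₁ e hα₁ => by
    haveI := (setup_sqY hY s).1
    haveI := (setup_sqX hX s).1
    haveI := lft_sq (f := f) inferInstance s
    haveI := flat_sq (f := f) inferInstance s
    exact atDeg_cl (flatOp hX hY hr hδ s)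
      (pull_cls (setup_sqX hX s).2.2 (setup_sqY hY s).2.2 s.f' (shift_sq hr hδ s) hα
        (sub_neg_eq_add _ _) hα₁ e)⟩

end Groth.Agent.Lib.Cyc.Bivar
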