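import Groth.Agent.Lib.Cyc.Bivar.Sq
import Groth.Agent.Lib.Cyc.ExtNat
import Groth.Agent.Lib.Cyc.CH.GysUnique
import Groth.Agent.Lib.Cyc.Gys.Commute

/-!
# The Gysin class
-/

set_option autoImplicit false
set_option linter.style.haveILetI false
universe u

open CategoryTheory CategoryTheory.Limits AlgebraicGeometry

noncomputable section

namespace Groth.Agent.Lib.Cyc.Bivar

open Groth.Agent.Lib Groth.Agent.Lib.Cyc Groth.Agent.Lib.Cyc.CH Groth.Agent.Lib.Cyc.Gys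

section GysD

variable {X D : Scheme.{u}} [IsLocallyNoetherian X] [IsLocallyNoetherian D] (i : D ⟶ X)
  [IsClosedImmersion i] {δ : X → ℤ} (hδ : Cyc.IsDimFun X δ) {δD : D → ℤ}
  (e : δD = fun d => δ (i d)) {M : X.Modules} (hM : PicF.IsInvertible M)
  {σ : M.presheaf.obj (Opposite.op ⊤)} (hD : Cyc.IsZeroSchemeOf i M σ)
  {w : (ξ : X) → Cyc.secFibre M ξ} (hw : ∀ ξ, w ξ ≠ 0)

/-- The Gysin operator with values in classes for a given restricted dimension function. -/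
def gysD : Tot X δ →+ Tot D δD :=
  (Commute.cast e.symm).comp (gys i hδ hM hD hw)

theorem gysD_cls {k k' : ℤ} {α : AlgebraicCycle X ℤ} (hα : α ∈ Cyc.Zk X δ k) {β : AlgebraicCycle D ℤ}
    (hk : k' = k - 1) (hβ : β ∈ Cyc.Zk D δD k')
    (h : ∀ d, β d = Cyc.c1CapFun δ M ⇑α (Cyc.gysinChoice M σ w) (i d)) :
    gysD i hδ e hM hD hw (cls δ k α hα) = cls δD k' β hβ := by
  subst e
  exact gys_cls i hδ hM hD hw hα hk hβ h

theorem gysD_congr {N : X.Modules} (ψ : M ≅ N) (hN : PicF.IsInvertible N)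
    {τ : N.presheaf.obj (Opposite.op ⊤)} (hD' : Cyc.IsZeroSchemeOf i N τ)
    {w' : (ξ : X) → Cyc.secFibre N ξ} (hw' : ∀ ξ, w' ξ ≠ 0) (x : Tot X δ) :
    gysD i hδ e hN hD' hw' x = gysD i hδ e hM hD hw x :=
  congrArg (Commute.cast e.symm) (gys_unique i ψ hδ hM hN hD hD' hw hw' x)

end GysD

section Shapes

variable {S T S' T' : Scheme.{u}} [IsLocallyNoetherian S] [IsLocallyNoetherian T]
  [IsLocallyNoetherian S'] [IsLocallyNoetherian T'] {δS : S → ℤ} {δT : T → ℤ} {δS' : S' → ℤ}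
  {δT' : T' → ℤ} (hS : Cyc.IsDimFun S δS) (hT : Cyc.IsDimFun T δT) (iS : S' ⟶ S)
  [IsClosedImmersion iS] (iT : T' ⟶ T) [IsClosedImmersion iT] (eS : δS' = fun d => δS (iS d))
  (eT : δT' = fun d => δT (iT d)) {M : S.Modules} (hM : PicF.IsInvertible M)
  {σ : M.presheaf.obj (Opposite.op ⊤)} (hσ : Cyc.IsZeroSchemeOf iS M σ)
  {w : (ξ : S) → Cyc.secFibre M ξ} (hw : ∀ ξ, w ξ ≠ 0) {N : T.Modules} (hN : PicF.IsInvertible N)
  {τ : N.presheaf.obj (Opposite.op ⊤)} (hτ : Cyc.IsZeroSchemeOf iT N τ)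
  {v : (ξ : T) → Cyc.secFibre N ξ} (hv : ∀ ξ, v ξ ≠ 0)

theorem pushOK_gys (h : T ⟶ S) [IsProper h] (h' : T' ⟶ S') [IsProper h']
    (sq : IsPullback iT h' h iS) (hc : Cyc.DeltaCompat h δT δS) (hc' : Cyc.DeltaCompat h' δT' δS')
    (e : (Scheme.Modules.pullback h).obj M ≅ N) (k : ℤ) :
    _root_.Bivar.PushOK δT δT' δS δS' h h' (atDeg (gysD iT hT eT hN hτ hv) k (k - 1))
      (atDeg (gysD iS hS eS hM hσ hw) k (k - 1)) := by
  subst eS eT
  intro α hα
  obtain ⟨τ', hτ'⟩ := Ext.exists_zero_square sq hM hσ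
  obtain ⟨v', hv'⟩ := exists_sections (PicLoc.isInvertible_pullback h hM)
  obtain ⟨β, hβ, eβ⟩ := exists_gys_cycle iT hT hN (s := τ) hv hα
  refine ⟨β, hβ, atDeg_cl _ (gysD_cls iT hT rfl hN hτ hv hα rfl hβ eβ),
    atDeg_cl _ (hβ := map_mem h' hβ) ?_⟩
  rw [← push_cls hT hS h hc hα rfl (map_mem h hα),
    ← push_cls (Closed.isDimFun iT hT) (Closed.isDimFun iS hS) h' hc' hβ rfl (map_mem h' hβ),
    ← gys_cls iT hT hN hτ hv hα rfl hβ eβ]
  refine (gys_push_square h iS iT h' hS hT hM hσ hτ' hw hv' sq hc hc' _).trans ?_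
  exact congrArg (push (Closed.isDimFun iT hT) (Closed.isDimFun iS hS) h' hc')
    (gys_unique iT e hT (PicLoc.isInvertible_pullback h hM) hN hτ' hτ hv' hv _).symm

theorem pullOK_gys (h : T ⟶ S) [Flat h] [LocallyOfFiniteType h] (h' : T' ⟶ S') [Flat h']
    [LocallyOfFiniteType h'] (sq : IsPullback iT h' h iS) {r : ℤ} (hc : FP.Main.Shift h δT δS r)
    (hc' : FP.Main.Shift h' δT' δS' r)
    (e : (Scheme.Modules.pullback h).obj M ≅ N) (k : ℤ) :
    _root_.Bivar.PullOK δS δS' δT δT' h h' r (atDeg (gysD iS hS eS hM hσ hw) k (k - 1))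
      (atDeg (gysD iT hT eT hN hτ hv) (k + r) (k + r - 1)) := by
  subst eS eT
  intro α hα
  obtain ⟨τ', hτ'⟩ := Ext.exists_zero_square sq hM hσ
  obtain ⟨v', hv'⟩ := exists_sections (PicLoc.isInvertible_pullback h hM)
  obtain ⟨β, hβ, eβ⟩ := exists_gys_cycle iS hS hM (s := σ) hw hα
  refine ⟨β, hβ, atDeg_cl _ (gysD_cls iS hS rfl hM hσ hw hα rfl hβ eβ), fun α₁ h₁ hα₁ => ?_⟩
  obtain ⟨β₁, hβ₁, e1⟩ := PullExists.exists_pullFun (δX := fun d => δT (iT d)) h' r hβ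
  have hβ₁' : β₁ ∈ Cyc.Zk T' (fun d => δT (iT d)) (k + r - 1) := by
    rwa [show k + r - 1 = k - 1 + r by ring]
  refine ⟨β₁, hβ₁', e1, atDeg_cl _ ?_⟩
  rw [← pull_cls hT hS h hc hα rfl hα₁ h₁,
    ← pull_cls (Closed.isDimFun iT hT) (Closed.isDimFun iS hS) h' hc' hβ
      (show k + r - 1 = k - 1 + r by ring) hβ₁' e1,
    ← gys_cls iS hS hM hσ hw hα rfl hβ eβ]
  refine (gys_unique iT e hT (PicLoc.isInvertible_pullback h hM) hN hτ' hτ hv' hv _).trans ?_
  exact gys_pull_square h iS iT h' hS hT hM hσ hτ' hw hv' sq hc hc' _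

end Shapes

section GysinShape

variable {S S' D E : Scheme.{u}} [IsLocallyNoetherian S] [IsLocallyNoetherian S']
  [IsLocallyNoetherian D] [IsLocallyNoetherian E] {δS : S → ℤ} {δS' : S' → ℤ} {δD : D → ℤ}
  {δE : E → ℤ} (hS : Cyc.IsDimFun S δS) (hD : Cyc.IsDimFun D δD) (iS : S' ⟶ S) [IsClosedImmersion iS]
  (i : D ⟶ S) [IsClosedImmersion i] (j : E ⟶ S') [IsClosedImmersion j] (q : E ⟶ D)
  [IsClosedImmersion q]

theorem gysinOK_gys (sq : IsPullback j q iS i) (eS : δS' = fun d => δS (iS d))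
    (eD : δD = fun d => δS (i d)) (eE : δE = fun z => δD (q z)) {M : S.Modules}
    (hM : PicF.IsInvertible M) {σ : M.presheaf.obj (Opposite.op ⊤)}
    (hσ : Cyc.IsZeroSchemeOf iS M σ) {w : (ξ : S) → Cyc.secFibre M ξ} (hw : ∀ ξ, w ξ ≠ 0)
    {N : D.Modules} (hN : PicF.IsInvertible N) {τ : N.presheaf.obj (Opposite.op ⊤)}
    (hτ : Cyc.IsZeroSchemeOf q N τ) {v : (ξ : D) → Cyc.secFibre N ξ} (hv : ∀ ξ, v ξ ≠ 0)
    (e : (Scheme.Modules.pullback i).obj M ≅ N) {L : S.Modules} (hL : PicF.IsInvertible L)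
    {s : L.presheaf.obj (Opposite.op ⊤)} (hs : Cyc.IsZeroSchemeOf i L s)
    {s' : ((Scheme.Modules.pullback iS).obj L).presheaf.obj (Opposite.op ⊤)}
    (hs' : Cyc.IsZeroSchemeOf j ((Scheme.Modules.pullback iS).obj L) s') (k : ℤ) :
    _root_.Bivar.GysinOK δS δD δS' δE i L s j ((Scheme.Modules.pullback iS).obj L) s'
      (atDeg (gysD iS hS eS hM hσ hw) k (k - 1)) (atDeg (gysD q hD eE hN hτ hv) (k - 1) (k - 1 - 1)) := by
  subst eS eD eE
  intro α hα
  have hfun := Commute.fun_eq iS i j q sq (δ := δS)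
  obtain ⟨τ', hτ'⟩ := Ext.exists_zero_square sq.flip hM hσ
  obtain ⟨v', hv'⟩ := exists_sections (PicLoc.isInvertible_pullback i hM)
  obtain ⟨β, hβ, eβ⟩ := exists_gys_cycle iS hS hM (s := σ) hw hα
  refine ⟨β, hβ, atDeg_cl _ (gysD_cls iS hS rfl hM hσ hw hα rfl hβ eβ), fun u hu γ hγc hγ u' hu' => ?_⟩
  obtain ⟨ζ, hζ, eζ⟩ := exists_gys_cycle j (Closed.isDimFun iS hS) (PicLoc.isInvertible_pullback iS hL)
    (s := s') hu' hβ
  have hζ' : ζ ∈ Cyc.Zk E (fun z => δS (i (q z))) (k - 1 - 1) := hfun.symm ▸ hζ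
  refine ⟨ζ, hζ', eζ, atDeg_cl _ ?_⟩
  have key := Commute.gys_comm iS i j q sq hS hM hL hσ hs hs' hτ' hw hu hu' hv' (cls δS k α hα)
  rw [gys_cls iS hS hM hσ hw hα rfl hβ eβ, gys_cls i hS hL hs hu hα rfl hγ hγc,
    gys_cls j _ _ hs' hu' hβ rfl hζ eζ] at key
  refine (gys_unique q e hD (PicLoc.isInvertible_pullback i hM) hN hτ' hτ hv' hv _).trans ?_
  have key2 := congrArg (Commute.cast hfun.symm) key
  rw [Commute.cast_cast, Commute.cast_cls hfun.symm hζ hζ'] at key2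
  exact key2.symm

end GysinShape

variable {X D : Scheme.{u}} {δX : X → ℤ} {δD : D → ℤ} {i : D ⟶ X}

theorem closed_sq (hi : IsClosedImmersion i) (s : _root_.Bivar.Sq i δD δX) : IsClosedImmersion s.f' :=
  MorphismProperty.of_isPullback s.isPullback.flip hi

variable (hX : Cyc.IsSetup X δX) (hD : Cyc.IsSetup D δD) [IsClosedImmersion i]
  (hδ : Cyc.DeltaCompat i δD δX) {L : X.Modules} (hL : PicF.IsInvertible L)
  {σ : L.presheaf.obj (Opposite.op ⊤)} (hσ : Cyc.IsZeroSchemeOf i L σ)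

include hδ in
theorem delta_sq (s : _root_.Bivar.Sq i δD δX) : s.δX' = fun d => s.δY' (s.f' d) :=
  haveI := closed_sq (i := i) inferInstance s
  delta_eq_of_closed s.f' (compat_f' hδ s)

include hL hσ in
theorem exists_sec_sq (s : _root_.Bivar.Sq i δD δX) :
    ∃ τ : ((Scheme.Modules.pullback s.g).obj L).presheaf.obj (Opposite.op ⊤),
      Cyc.IsZeroSchemeOf s.f' ((Scheme.Modules.pullback s.g).obj L) τ :=
  haveI := closed_sq (i := i) inferInstance s
  Ext.exists_zero_square s.isPullback hL hσ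

/-- The Gysin operator on one square. -/
def gysOp (s : _root_.Bivar.Sq i δD δX) : Tot s.Y' s.δY' →+ Tot s.X' s.δX' :=
  haveI := (setup_sqY hX s).1
  haveI := (setup_sqX hD s).1
  haveI := closed_sq (i := i) inferInstance s
  gysD s.f' (setup_sqY hX s).2.2 (delta_sq hδ s) (PicLoc.isInvertible_pullback s.g hL)
    (exists_sec_sq hL hσ s).choose_spec
    (exists_sections (PicLoc.isInvertible_pullback s.g hL)).choose_spec

/-- The Gysin maps as a bivariant class. -/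
def gysClass : _root_.Bivar.Cl 1 i δD δX where
  op s k := atDeg (gysOp hX hD hδ hL hσ s) k (k - 1)
  push s t h _ h' _ w₁ w₂ w₃ k := by
    haveI := (setup_sqY hX s).1
    haveI := (setup_sqX hD s).1
    haveI := (setup_sqY hX t).1
    haveI := (setup_sqX hD t).1
    haveI := closed_sq (i := i) inferInstance s
    haveI := closed_sq (i := i) inferInstance t
    exact pushOK_gys (setup_sqY hX s).2.2 (setup_sqY hX t).2.2 s.f' t.f' _ _ _ _ _ _ _ _ h h'
      (isPullback_map s t h h' w₁ w₂ w₃).flip (compat_of_comp h w₁ s.compatY t.compatY)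
      (compat_of_comp h' w₃ s.compatX t.compatX)
      ((Scheme.Modules.pullbackComp h s.g).app L ≪≫ (Scheme.Modules.pullbackCongr w₁).app L) k
  pull s t h _ h' _ d hd hd' w₁ w₂ w₃ k := by
    haveI := (setup_sqY hX s).1
    haveI := (setup_sqX hD s).1
    haveI := (setup_sqY hX t).1
    haveI := (setup_sqX hD t).1
    haveI := closed_sq (i := i) inferInstance s
    haveI := closed_sq (i := i) inferInstance t
    haveI := lft_of_comp w₁ t.lft
    haveI : LocallyOfFiniteType h' :=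
      lft_of_comp w₃ (MorphismProperty.of_isPullback t.isPullback t.lft)
    exact pullOK_gys (setup_sqY hX s).2.2 (setup_sqY hX t).2.2 s.f' t.f' _ _ _ _ _ _ _ _ h h'
      (isPullback_map s t h h' w₁ w₂ w₃).flip
      (FP.Main.shift_of_hasRelDim h hd (compat_of_comp h w₁ s.compatY t.compatY))
      (FP.Main.shift_of_hasRelDim h' hd' (compat_of_comp h' w₃ s.compatX t.compatX))
      ((Scheme.Modules.pullbackComp h s.g).app L ≪≫ (Scheme.Modules.pullbackCongr w₁).app L) k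
  gysin s t h _ h' _ w₁ w₂ w₃ M hM τ hτ τ' hτ' k := by
    haveI := (setup_sqY hX s).1
    haveI := (setup_sqX hD s).1
    haveI := (setup_sqY hX t).1
    haveI := (setup_sqX hD t).1
    haveI := closed_sq (i := i) inferInstance s
    haveI := closed_sq (i := i) inferInstance t
    exact gysinOK_gys (setup_sqY hX s).2.2 (setup_sqY hX t).2.2 s.f' h h' t.f'
      (isPullback_map s t h h' w₁ w₂ w₃) (delta_sq hδ s)
      (delta_eq_of_closed h (compat_of_comp h w₁ s.compatY t.compatY)) (delta_sq hδ t) _ _ _ _ _ _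
      ((Scheme.Modules.pullbackComp h s.g).app L ≪≫ (Scheme.Modules.pullbackCongr w₁).app L)
      hM hτ hτ' k

theorem isGysinClass_gysClass : _root_.Bivar.IsGysinClass i L σ (gysClass hX hD hδ hL hσ) :=
  ⟨hL, hσ, hδ, fun s τ hτ k α hα w hw γ eγ hγ => by
    haveI := (setup_sqY hX s).1
    haveI := (setup_sqX hD s).1
    haveI := closed_sq (i := i) inferInstance s
    refine atDeg_cl (gysOp hX hD hδ hL hσ s) ?_
    exact (gysD_congr s.f' (setup_sqY hX s).2.2 (delta_sq hδ s) (PicLoc.isInvertible_pullback s.g hL)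
        hτ hw (Iso.refl _) _ _ _ _).trans
      (gysD_cls s.f' (setup_sqY hX s).2.2 (delta_sq hδ s) _ hτ hw hα rfl hγ eγ)⟩

end Groth.Agent.Lib.Cyc.Bivar
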