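import Groth.Agent.Lib.Cyc.Bivar.Sq
import Groth.Agent.Lib.Cyc.CH.GysUnique
import Groth.Agent.S9358

/-!
# Proper pushforward of a bivariant class
-/

set_option autoImplicit false
set_option linter.style.haveILetI false
universe u

open CategoryTheory CategoryTheory.Limits AlgebraicGeometry

noncomputable section

namespace Groth.Agent.Lib.Cyc.Bivar

open Groth.Agent.Lib Groth.Agent.Lib.Cyc Groth.Agent.Lib.Cyc.CH

/-- Gysin and pushforward, for the transported data of a pushed forward class. -/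
theorem cl_gys_push {S E X₁ E₁ : Scheme.{u}} [IsLocallyNoetherian S] [IsLocallyNoetherian E]
    [IsLocallyNoetherian X₁] [IsLocallyNoetherian E₁] {δS : S → ℤ} {δE : E → ℤ} {δ₁ : X₁ → ℤ} {δE₁ : E₁ → ℤ}
    (hS : Cyc.IsDimFun S δS) (h₁ : Cyc.IsDimFun X₁ δ₁) (f : X₁ ⟶ S) [IsProper f] (q : E₁ ⟶ E) [IsProper q]
    (j : E ⟶ S) [IsClosedImmersion j] (j₁ : E₁ ⟶ X₁) [IsClosedImmersion j₁]
    (hE : δE = fun z => δS (j z)) (hE₁ : δE₁ = fun z => δ₁ (j₁ z))
    (hc : Cyc.DeltaCompat f δ₁ δS) (hq : Cyc.DeltaCompat q δE₁ δE) (hsq : IsPullback j₁ q f j)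
    {M : S.Modules} (hM : PicF.IsInvertible M) {σ : M.presheaf.obj (Opposite.op ⊤)}
    (hσ : Cyc.IsZeroSchemeOf j M σ) {N : X₁.Modules} (e : (Scheme.Modules.pullback f).obj M ≅ N)
    (hN : PicF.IsInvertible N) {τ : N.presheaf.obj (Opposite.op ⊤)} (hτ : Cyc.IsZeroSchemeOf j₁ N τ)
    {v : (ξ : S) → Cyc.secFibre M ξ} (hv : ∀ ξ, v ξ ≠ 0) {w : (ξ : X₁) → Cyc.secFibre N ξ}
    (hw : ∀ ξ, w ξ ≠ 0) {m m' : ℤ} (hm : m' = m - 1) {β : AlgebraicCycle X₁ ℤ}
    (hβ : β ∈ Cyc.Zk X₁ δ₁ m) {ζ : AlgebraicCycle E₁ ℤ} (hζ : ζ ∈ Cyc.Zk E₁ δE₁ m')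
    (eζ : ∀ z, ζ z = Cyc.c1CapFun δ₁ N ⇑β (Cyc.gysinChoice N τ w) (j₁ z))
    {ζ' : AlgebraicCycle E ℤ} (hζ' : ζ' ∈ Cyc.Zk E δE m')
    (eζ' : ∀ z, ζ' z = Cyc.c1CapFun δS M ⇑(AlgebraicCycle.map f δ₁ δS β) (Cyc.gysinChoice M σ v) (j z)) :
    ChowOps.cl ζ' hζ' =
      ChowOps.cl (AlgebraicCycle.map q δE₁ δE ζ) (_root_.Bivar.cycMap_mem_Zk q δE₁ δE m' hζ) := by
  subst hE hE₁
  refine cl_eq_of_cls ?_
  let ψ : N ≅ (Scheme.Modules.pullback f).obj M := e.symm
  have hM₁ := PicLoc.isInvertible_pullback f hM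
  have hτ' := isZeroSchemeOf_map ψ j₁ hτ
  have key := gys_push_square f j j₁ q hS h₁ hM hσ hτ' hv
    (w' := fun ξ => fibMap ψ ξ (w ξ)) (fun ξ => fibMap_ne_zero ψ ξ (hw ξ)) hsq hc hq (cls δ₁ m β hβ)
  rw [gys_unique j₁ ψ h₁ hN hM₁ hτ hτ' hw, push_cls h₁ hS f hc hβ rfl (map_mem f hβ),
    gys_cls j hS hM hσ hv (map_mem f hβ) hm hζ' eζ', gys_cls j₁ h₁ hN hτ hw hβ hm hζ eζ,
    push_cls (Gys.Closed.isDimFun j₁ h₁) (Gys.Closed.isDimFun j hS) q hq hζ rfl (map_mem q hζ)] at key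
  exact key

variable {X Y Z : Scheme.{u}} {δX : X → ℤ} {δY : Y → ℤ} {δZ : Z → ℤ} (hX : Cyc.IsSetup X δX)
  (f : X ⟶ Y) [IsProper f] {g : Y ⟶ Z}

omit [IsProper f] in
theorem lft_sqg' (s : _root_.Bivar.Sq g δY δZ) : LocallyOfFiniteType s.g' :=
  MorphismProperty.of_isPullback s.isPullback s.lft

include hX in
theorem exists_sqF (s : _root_.Bivar.Sq g δY δZ) :
    ∃ δ : ↥(pullback s.g' f) → ℤ, Cyc.IsSetup (pullback s.g' f) δ ∧
      Cyc.DeltaCompat (pullback.snd s.g' f) δ δX :=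
  haveI := lft_sqg' s
  haveI : LocallyOfFiniteType (pullback.snd s.g' f) :=
    MorphismProperty.of_isPullback (IsPullback.of_hasPullback s.g' f) ‹LocallyOfFiniteType s.g'›
  exists_setup (pullback.snd s.g' f) hX

/-- The square over `f` above a square over `g`. -/
abbrev sqF (s : _root_.Bivar.Sq g δY δZ) : _root_.Bivar.Sq f δX δY where
  Y' := s.X'
  X' := pullback s.g' f
  g := s.g'
  f' := pullback.fst s.g' f
  g' := pullback.snd s.g' f
  isPullback := IsPullback.of_hasPullback s.g' f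
  lft := lft_sqg' s
  δY' := s.δX'
  δX' := (exists_sqF hX f s).choose
  compatY := s.compatX
  compatX := (exists_sqF hX f s).choose_spec.2

/-- The square over the composite above a square over `g`. -/
abbrev sqC (s : _root_.Bivar.Sq g δY δZ) : _root_.Bivar.Sq (f ≫ g) δX δZ where
  Y' := s.Y'
  X' := pullback s.g' f
  g := s.g
  f' := pullback.fst s.g' f ≫ s.f'
  g' := pullback.snd s.g' f
  isPullback := (IsPullback.of_hasPullback s.g' f).paste_horiz s.isPullback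
  lft := s.lft
  δY' := s.δY'
  δX' := (exists_sqF hX f s).choose
  compatY := s.compatY
  compatX := (exists_sqF hX f s).choose_spec.2

variable (hY : Cyc.IsSetup Y δY) (hδf : Cyc.DeltaCompat f δX δY) {p : ℤ}
  (c : _root_.Bivar.Cl p (f ≫ g) δX δZ)

/-- Pushforward on one square. -/
def pushOp (s : _root_.Bivar.Sq g δY δZ) : Tot (sqF hX f s).X' (sqF hX f s).δX' →+ Tot s.X' s.δX' :=
  haveI := (setup_sqX hY s).1
  haveI := (setup_sqX hX (sqF hX f s)).1
  push (setup_sqX hX (sqF hX f s)).2.2 (setup_sqX hY s).2.2 (pullback.fst s.g' f)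
    (compat_f' hδf (sqF hX f s))

/-- The operations of the pushed forward class. -/
def pushClassOp (s : _root_.Bivar.Sq g δY δZ) (k : ℤ) :
    ChowOps.CH s.Y' s.δY' k →+ ChowOps.CH s.X' s.δX' (k - p) :=
  (atDeg (pushOp hX f hY hδf s) (k - p) (k - p)).comp (c.op (sqC hX f s) k)

theorem pushClassOp_eq (s : _root_.Bivar.Sq g δY δZ) {k : ℤ} {α : AlgebraicCycle s.Y' ℤ}
    {hα : α ∈ Cyc.Zk s.Y' s.δY' k} {β : AlgebraicCycle (sqC hX f s).X' ℤ}
    {hβ : β ∈ Cyc.Zk _ (sqC hX f s).δX' (k - p)}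
    (e : c.op (sqC hX f s) k (ChowOps.cl α hα) = ChowOps.cl β hβ) :
    pushClassOp hX f hY hδf c s k (ChowOps.cl α hα) =
      ChowOps.cl (AlgebraicCycle.map (pullback.fst s.g' f) (sqC hX f s).δX' s.δX' β)
        (_root_.Bivar.cycMap_mem_Zk _ _ _ (k - p) hβ) := by
  haveI := (setup_sqX hY s).1
  haveI := (setup_sqX hX (sqF hX f s)).1
  refine (congrArg (atDeg (pushOp hX f hY hδf s) (k - p) (k - p)) e).trans (atDeg_cl _ ?_)
  exact push_cls _ _ _ _ hβ rfl _

/-- The pushforward of a bivariant class. -/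
def pushClass : _root_.Bivar.Cl p g δY δZ where
  op := pushClassOp hX f hY hδf c
  push s t h _ h' _ w₁ w₂ w₃ k α hα := by
    haveI := (setup_sqX hY s).1
    haveI := (setup_sqX hY t).1
    haveI := (setup_sqX hX (sqF hX f s)).1
    haveI := (setup_sqX hX (sqF hX f t)).1
    let h'' : pullback t.g' f ⟶ pullback s.g' f :=
      pullback.map t.g' f s.g' f h' (𝟙 X) (𝟙 Y) (by rw [Category.comp_id, w₃]) (by simp)
    have a₁ : h'' ≫ pullback.fst s.g' f = pullback.fst t.g' f ≫ h' := pullback.lift_fst _ _ _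
    have a₂ : h'' ≫ pullback.snd s.g' f = pullback.snd t.g' f :=
      (pullback.lift_snd _ _ _).trans (Category.comp_id _)
    have sq := isPullback_map (sqF hX f s) (sqF hX f t) h' h'' w₃ a₁ a₂
    haveI : IsProper h'' := MorphismProperty.of_isPullback sq.flip ‹IsProper h'›
    obtain ⟨β, hβ, e₁, e₂⟩ := c.push (sqC hX f s) (sqC hX f t) h h'' w₁
      (by rw [← Category.assoc, a₁, Category.assoc, w₂, Category.assoc]) a₂ k α hα
    refine ⟨_, _, pushClassOp_eq hX f hY hδf c t e₁, (pushClassOp_eq hX f hY hδf c s e₂).trans ?_⟩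
    refine cl_eq_of_cls (cls_congr rfl ?_)
    rw [Cyc.Push.map_map_apply h'' (pullback.fst s.g' f) _ _ _
        (compat_of_comp h'' a₂ (sqC hX f s).compatX (sqC hX f t).compatX) (compat_f' hδf (sqF hX f s)),
      Cyc.Push.map_map_apply (pullback.fst t.g' f) h' _ _ _ (compat_f' hδf (sqF hX f t))
        (compat_of_comp h' w₃ s.compatX t.compatX)]
    simp only [a₁]
  pull s t h _ h' _ d hd hd' w₁ w₂ w₃ k α hα := by
    haveI := (setup_sqX hY s).1
    haveI := (setup_sqX hY t).1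
    haveI := (setup_sqX hX (sqF hX f s)).1
    haveI := (setup_sqX hX (sqF hX f t)).1
    let h'' : pullback t.g' f ⟶ pullback s.g' f :=
      pullback.map t.g' f s.g' f h' (𝟙 X) (𝟙 Y) (by rw [Category.comp_id, w₃]) (by simp)
    have a₁ : h'' ≫ pullback.fst s.g' f = pullback.fst t.g' f ≫ h' := pullback.lift_fst _ _ _
    have a₂ : h'' ≫ pullback.snd s.g' f = pullback.snd t.g' f :=
      (pullback.lift_snd _ _ _).trans (Category.comp_id _)
    have sq := isPullback_map (sqF hX f s) (sqF hX f t) h' h'' w₃ a₁ a₂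
    haveI : Flat h'' := MorphismProperty.of_isPullback sq.flip ‹Flat h'›
    haveI : LocallyOfFiniteType h' := lft_of_comp w₃ (lft_sqg' t)
    haveI : LocallyOfFiniteType h'' := MorphismProperty.of_isPullback sq.flip ‹LocallyOfFiniteType h'›
    have hd'' : Cyc.HasRelDim h'' d :=
      (Groth.Agent.S9358.result h' (pullback.fst s.g' f) (pullback.fst t.g' f) h'' sq.flip d).2.2 hd'
    obtain ⟨β, hβ, e₁, e₂⟩ := c.pull (sqC hX f s) (sqC hX f t) h h'' d hd hd'' w₁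
      (by rw [← Category.assoc, a₁, Category.assoc, w₂, Category.assoc]) a₂ k α hα
    refine ⟨_, _, pushClassOp_eq hX f hY hδf c s e₁, fun α₁ h₁ hα₁ => ?_⟩
    obtain ⟨β₁, hβ₁, h₂, e₃⟩ := e₂ α₁ h₁ hα₁
    refine ⟨_, _, ?_, pushClassOp_eq hX f hY hδf c t e₃⟩
    exact (BaseChange.pullFun_map (q := h'') (f' := pullback.fst t.g' f) sq.flip (setup_sqX hY t).2.2
      (compat_f' hδf (sqF hX f s))
      (FP.Main.shift_of_hasRelDim h' hd' (compat_of_comp h' w₃ s.compatX t.compatX))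
      (FP.Main.shift_of_hasRelDim h'' hd''
        (compat_of_comp h'' a₂ (sqC hX f s).compatX (sqC hX f t).compatX)) hβ β₁ h₂).symm
  gysin s t i _ j _ w₁ w₂ w₃ L hL σ hσ τ hτ k α hα := by
    haveI := (setup_sqX hY s).1
    haveI := (setup_sqX hY t).1
    haveI := (setup_sqX hX (sqF hX f s)).1
    haveI := (setup_sqX hX (sqF hX f t)).1
    let j'' : pullback t.g' f ⟶ pullback s.g' f :=
      pullback.map t.g' f s.g' f j (𝟙 X) (𝟙 Y) (by rw [Category.comp_id, w₃]) (by simp)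
    have a₁ : j'' ≫ pullback.fst s.g' f = pullback.fst t.g' f ≫ j := pullback.lift_fst _ _ _
    have a₂ : j'' ≫ pullback.snd s.g' f = pullback.snd t.g' f :=
      (pullback.lift_snd _ _ _).trans (Category.comp_id _)
    have sq := isPullback_map (sqF hX f s) (sqF hX f t) j j'' w₃ a₁ a₂
    haveI : IsClosedImmersion j'' := MorphismProperty.of_isPullback sq.flip ‹IsClosedImmersion j›
    have w₂' : j'' ≫ (sqC hX f s).f' = (sqC hX f t).f' ≫ i := by
      rw [← Category.assoc, a₁, Category.assoc, w₂, Category.assoc]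
    have sqi := isPullback_map (sqC hX f s) (sqC hX f t) i j'' w₁ w₂' a₂
    obtain ⟨τ₀, hτ₀⟩ := Gys.PullZero.exists_zeroSection (sqC hX f s).f' i hL hσ
    have hτ'' : Cyc.IsZeroSchemeOf j'' ((Scheme.Modules.pullback (sqC hX f s).f').obj L) τ₀ :=
      isZeroSchemeOf_iso _ j'' sqi.isoPullback.inv sqi.isoPullback_inv_fst hτ₀
    obtain ⟨β, hβ, e₁, e₂⟩ := c.gysin (sqC hX f s) (sqC hX f t) i j'' w₁ w₂' a₂ L hL σ hσ τ₀ hτ'' k α hα
    refine ⟨_, _, pushClassOp_eq hX f hY hδf c s e₁, fun v hv γ hγc hγ v' hv' => ?_⟩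
    have hL' := PicLoc.isInvertible_pullback s.f' hL
    have hL'' := PicLoc.isInvertible_pullback (sqC hX f s).f' hL
    obtain ⟨w, hw⟩ := exists_sections hL''
    obtain ⟨ζ, hζ, eζ, e₃⟩ := e₂ v hv γ hγc hγ w hw
    have hS := (setup_sqX hY s).2.2
    have hj := delta_eq_of_closed j (compat_of_comp j w₃ s.compatX t.compatX)
    obtain ⟨ζ', hζ', eζ'⟩ := exists_gys_cycle j hS hL' (s := τ) hv'
      (map_mem (δY := s.δX') (pullback.fst s.g' f) hβ)
    have hζ'' : ζ' ∈ Cyc.Zk t.X' t.δX' (k - 1 - p) := by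
      rw [hj, sub_right_comm]
      exact hζ'
    refine ⟨ζ', hζ'', eζ', (pushClassOp_eq hX f hY hδf c t e₃).trans ?_⟩
    exact (cl_gys_push hS (setup_sqX hX (sqF hX f s)).2.2 (pullback.fst s.g' f) (pullback.fst t.g' f) j j''
      hj (delta_eq_of_closed j'' (compat_of_comp j'' a₂ (sqC hX f s).compatX (sqC hX f t).compatX))
      (compat_f' hδf (sqF hX f s)) (compat_f' hδf (sqF hX f t)) sq hL' hτ
      ((Scheme.Modules.pullbackComp (pullback.fst s.g' f) s.f').app L) hL'' hτ'' hv' hw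
      (sub_right_comm k 1 p) hβ hζ eζ hζ'' eζ').symm

theorem isProperPushClass_pushClass :
    _root_.Bivar.IsProperPushClass f g c (pushClass hX f hY hδf c) := by
  refine ⟨inferInstance, hδf, fun s X' f' _ gX hp δX' hX' k α hα β hβ hc => ?_⟩
  let sP : _root_.Bivar.Sq (f ≫ g) δX δZ :=
    ⟨s.Y', X', s.g, f' ≫ s.f', gX, hp.paste_horiz s.isPullback, s.lft, s.δY', δX', s.compatY, hX'⟩
  haveI := (setup_sqX hY s).1
  haveI := (setup_sqX hX (sqF hX f s)).1
  haveI : IsLocallyNoetherian X' := (setup_sqX hX sP).1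
  let e := hp.isoPullback.hom
  have a₁ : e ≫ pullback.fst s.g' f = f' := hp.isoPullback_hom_fst
  have a₂ : e ≫ pullback.snd s.g' f = gX := hp.isoPullback_hom_snd
  obtain ⟨β₀, hβ₀, e₁, e₂⟩ := c.push (sqC hX f s) sP (𝟙 s.Y') e (Category.id_comp _)
    (by rw [Category.comp_id, ← Category.assoc, a₁]) a₂ k α hα
  have hα' : AlgebraicCycle.map (𝟙 s.Y') s.δY' s.δY' α = α := by
    ext y
    exact Gys.Closed.map_apply_image (𝟙 s.Y') (δ := s.δY') α y
  have hcl : ChowOps.cl α hα = ChowOps.cl (AlgebraicCycle.map (𝟙 s.Y') s.δY' s.δY' α)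
      (_root_.Bivar.cycMap_mem_Zk (𝟙 s.Y') s.δY' s.δY' k hα) :=
    cl_eq_of_cls (cls_congr rfl (congrArg (fun a : AlgebraicCycle s.Y' ℤ => ⇑a) hα'.symm))
  refine ((congrArg ((pushClass hX f hY hδf c).op s k) hcl).trans
    (pushClassOp_eq hX f hY hδf c s e₂)).trans (cl_eq_of_cls ?_)
  have hce := compat_of_comp e a₂ (sqC hX f s).compatX hX'
  have hf' : Cyc.DeltaCompat f' δX' s.δX' :=
    deltaCompat_of_comm (π := s.g') (π' := gX) (f := f) hp.w s.compatX hX' hδf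
  have hcls : cls δX' (k - p) β₀ hβ₀ = cls δX' (k - p) β hβ :=
    congrArg (DirectSum.of (fun k => ChowOps.CH X' δX' k) (k - p)) (e₁.symm.trans hc)
  have key := congrArg (push (setup_sqX hX sP).2.2 (setup_sqX hY s).2.2 f' hf') hcls
  rw [push_cls (setup_sqX hX sP).2.2 (setup_sqX hY s).2.2 f' hf' hβ rfl (map_mem f' hβ)] at key
  rw [← push_comp (setup_sqX hX sP).2.2 (setup_sqX hX (sqF hX f s)).2.2 (setup_sqX hY s).2.2 e hce
      (pullback.fst s.g' f) (compat_f' hδf (sqF hX f s)) f' a₁ hf',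
    push_cls (setup_sqX hX sP).2.2 (setup_sqX hX (sqF hX f s)).2.2 e hce hβ₀ rfl (map_mem e hβ₀),
    push_cls (setup_sqX hX (sqF hX f s)).2.2 (setup_sqX hY s).2.2 (pullback.fst s.g' f)
      (compat_f' hδf (sqF hX f s)) (map_mem e hβ₀) rfl (map_mem _ (map_mem e hβ₀))] at key
  exact key

end Groth.Agent.Lib.Cyc.Bivar
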