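import Groth.Agent.Lib.Cyc.Bivar.Basic
import Groth.Agent.Lib.Cyc.CH.PushCh
import Groth.Prelude.Def_Bivar2

/-!
# Operations in each degree as one operator on all Chow groups
-/

set_option autoImplicit false
set_option linter.style.haveILetI false
universe u

open CategoryTheory AlgebraicGeometry

noncomputable section

namespace Groth.Agent.Lib.Cyc.Bivar

open Groth.Agent.Lib Groth.Agent.Lib.Cyc Groth.Agent.Lib.Cyc.CH

variable {S S' T T' : Scheme.{u}} {δS : S → ℤ} {δS' : S' → ℤ} {δT : T → ℤ} {δT' : T' → ℤ} {p : ℤ}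

/-- The operator with the given components. -/
def totOp (φ : ∀ k, ChowOps.CH S δS k →+ ChowOps.CH S' δS' (k - p)) : Tot S δS →+ Tot S' δS' :=
  DirectSum.toAddMonoid fun k =>
    (DirectSum.of (fun k => ChowOps.CH S' δS' k) (k - p)).comp (φ k)

theorem totOp_of (φ : ∀ k, ChowOps.CH S δS k →+ ChowOps.CH S' δS' (k - p)) (k : ℤ)
    (x : ChowOps.CH S δS k) :
    totOp φ (DirectSum.of (fun k => ChowOps.CH S δS k) k x) =
      DirectSum.of (fun k => ChowOps.CH S' δS' k) (k - p) (φ k x) :=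
  DirectSum.toAddMonoid_of _ _ _

theorem totOp_cls (φ : ∀ k, ChowOps.CH S δS k →+ ChowOps.CH S' δS' (k - p)) {k : ℤ}
    {α : AlgebraicCycle S ℤ} {hα : α ∈ Cyc.Zk S δS k} {β : AlgebraicCycle S' ℤ}
    {hβ : β ∈ Cyc.Zk S' δS' (k - p)} (e : φ k (ChowOps.cl α hα) = ChowOps.cl β hβ) :
    totOp φ (cls δS k α hα) = cls δS' (k - p) β hβ :=
  (totOp_of φ k _).trans (congrArg (DirectSum.of (fun k => ChowOps.CH S' δS' k) (k - p)) e)

variable [IsLocallyNoetherian S] [IsLocallyNoetherian S'] [IsLocallyNoetherian T]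
  [IsLocallyNoetherian T'] (hS : Cyc.IsDimFun S δS) (hS' : Cyc.IsDimFun S' δS')
  (hT : Cyc.IsDimFun T δT) (hT' : Cyc.IsDimFun T' δT')
  (φ : ∀ k, ChowOps.CH S δS k →+ ChowOps.CH S' δS' (k - p))
  (ψ : ∀ k, ChowOps.CH T δT k →+ ChowOps.CH T' δT' (k - p))

theorem push_totOp (h : T ⟶ S) [IsProper h] (h' : T' ⟶ S') [IsProper h'] (hc : Cyc.DeltaCompat h δT δS)
    (hc' : Cyc.DeltaCompat h' δT' δS')
    (ok : ∀ k, _root_.Bivar.PushOK δT δT' δS δS' h h' (ψ k) (φ k)) (x : Tot T δT) :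
    push hT' hS' h' hc' (totOp ψ x) = totOp φ (push hT hS h hc x) := by
  refine DFunLike.congr_fun (hom_ext (A := (push hT' hS' h' hc').comp (totOp ψ))
    (B := (totOp φ).comp (push hT hS h hc)) fun k α hα => ?_) x
  rw [AddMonoidHom.comp_apply, AddMonoidHom.comp_apply]
  obtain ⟨β, hβ, e₁, e₂⟩ := ok k α hα
  rw [totOp_cls ψ e₁, push_cls hT' hS' h' hc' hβ rfl (map_mem h' hβ),
    push_cls hT hS h hc hα rfl (map_mem h hα)]
  exact (totOp_cls φ (hβ := map_mem h' hβ) e₂).symm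

theorem pull_totOp (h : T ⟶ S) [Flat h] [LocallyOfFiniteType h] (h' : T' ⟶ S') [Flat h']
    [LocallyOfFiniteType h'] {r : ℤ} (hc : FP.Main.Shift h δT δS r)
    (hc' : FP.Main.Shift h' δT' δS' r)
    (ok : ∀ k, _root_.Bivar.PullOK δS δS' δT δT' h h' r (φ k) (ψ (k + r))) (x : Tot S δS) :
    pull hT' hS' h' hc' (totOp φ x) = totOp ψ (pull hT hS h hc x) := by
  refine DFunLike.congr_fun (hom_ext (A := (pull hT' hS' h' hc').comp (totOp φ))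
    (B := (totOp ψ).comp (pull hT hS h hc)) fun k α hα => ?_) x
  rw [AddMonoidHom.comp_apply, AddMonoidHom.comp_apply]
  obtain ⟨β, hβ, e₁, e₂⟩ := ok k α hα
  obtain ⟨α₁, hα₁, h₁⟩ := PullExists.exists_pullFun (δX := δT) h r hα
  obtain ⟨β₁, hβ₁, h₂, e₃⟩ := e₂ α₁ h₁ hα₁
  rw [totOp_cls φ e₁, pull_cls hT hS h hc hα rfl hα₁ h₁, totOp_cls ψ e₃,
    pull_cls hT' hS' h' hc' hβ (show k + r - p = k - p + r by ring) hβ₁ h₂]

end Groth.Agent.Lib.Cyc.Bivar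

namespace Groth.Agent.Lib.Cyc.Bivar

open Groth.Agent.Lib Groth.Agent.Lib.Cyc Groth.Agent.Lib.Cyc.CH

variable {S S' T T' : Scheme.{u}} {δS : S → ℤ} {δS' : S' → ℤ} {p : ℤ}
  [IsLocallyNoetherian S] [IsLocallyNoetherian S'] [IsLocallyNoetherian T] [IsLocallyNoetherian T']
  (hS : Cyc.IsDimFun S δS) (hS' : Cyc.IsDimFun S' δS') (i : T ⟶ S) [IsClosedImmersion i]
  (i' : T' ⟶ S') [IsClosedImmersion i'] {M : S.Modules} (hM : PicF.IsInvertible M)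
  {σ : M.presheaf.obj (Opposite.op ⊤)} (hσ : Cyc.IsZeroSchemeOf i M σ)
  {w : (ξ : S) → Cyc.secFibre M ξ} (hw : ∀ ξ, w ξ ≠ 0)

theorem gys_totOp {N : S'.Modules} (hN : PicF.IsInvertible N) {τ : N.presheaf.obj (Opposite.op ⊤)}
    (hτ : Cyc.IsZeroSchemeOf i' N τ) {w' : (ξ : S') → Cyc.secFibre N ξ} (hw' : ∀ ξ, w' ξ ≠ 0)
    (φ : ∀ k, ChowOps.CH S δS k →+ ChowOps.CH S' δS' (k - p))
    (ψ : ∀ k, ChowOps.CH T (fun t => δS (i t)) k →+ ChowOps.CH T' (fun t => δS' (i' t)) (k - p))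
    (ok : ∀ k, _root_.Bivar.GysinOK δS (fun t => δS (i t)) δS' (fun t => δS' (i' t)) i M σ i' N τ
      (φ k) (ψ (k - 1))) (x : Tot S δS) :
    gys i' hS' hN hτ hw' (totOp φ x) = totOp ψ (gys i hS hM hσ hw x) := by
  refine DFunLike.congr_fun (hom_ext (A := (gys i' hS' hN hτ hw').comp (totOp φ))
    (B := (totOp ψ).comp (gys i hS hM hσ hw)) fun k α hα => ?_) x
  rw [AddMonoidHom.comp_apply, AddMonoidHom.comp_apply]
  obtain ⟨β, hβ, e₁, e₂⟩ := ok k α hα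
  obtain ⟨γ, hγ, eγ⟩ := exists_gys_cycle i hS hM (s := σ) hw hα
  obtain ⟨ζ, hζ, eζ, e₃⟩ := e₂ w hw γ eγ hγ w' hw'
  rw [totOp_cls φ e₁, gys_cls i hS hM hσ hw hα rfl hγ eγ, totOp_cls ψ e₃,
    gys_cls i' hS' hN hτ hw' hβ (show k - 1 - p = k - p - 1 by ring) hζ eζ]

theorem gys_totOp_self (φ : ∀ k, ChowOps.CH S δS k →+ ChowOps.CH S δS (k - p))
    (ψ : ∀ k, ChowOps.CH T (fun t => δS (i t)) k →+ ChowOps.CH T (fun t => δS (i t)) (k - p))
    (ok : ∀ k, _root_.Bivar.GysinOK₁ δS (fun t => δS (i t)) i M σ (φ k) (ψ (k - 1)))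
    (x : Tot S δS) : gys i hS hM hσ hw (totOp φ x) = totOp ψ (gys i hS hM hσ hw x) := by
  refine DFunLike.congr_fun (hom_ext (A := (gys i hS hM hσ hw).comp (totOp φ))
    (B := (totOp ψ).comp (gys i hS hM hσ hw)) fun k α hα => ?_) x
  rw [AddMonoidHom.comp_apply, AddMonoidHom.comp_apply]
  obtain ⟨β, hβ, e₁, e₂⟩ := ok k α hα
  obtain ⟨γ, hγ, eγ⟩ := exists_gys_cycle i hS hM (s := σ) hw hα
  obtain ⟨ζ, hζ, eζ, e₃⟩ := e₂ w hw γ eγ hγ
  rw [totOp_cls φ e₁, gys_cls i hS hM hσ hw hα rfl hγ eγ, totOp_cls ψ e₃,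
    gys_cls i hS hM hσ hw hβ (show k - 1 - p = k - p - 1 by ring) hζ eζ]

end Groth.Agent.Lib.Cyc.Bivar
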